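import Mathlib

/-!
# Counting the conjugates of a trivial intersection set

`X` a subset of `G`, `N` a subgroup normalising `X` and containing every element conjugating an element
of `X` into `X`: the elements conjugate into `X` number `|G : N| |X|`.
-/

set_option autoImplicit false

namespace Cfsg.Agent.H362.TICount

variable {G : Type*} [Group G]

theorem orderOf_conj (x g : G) : orderOf (g⁻¹ * x * g) = orderOf x := by
  have := orderOf_injective (MulAut.conj g⁻¹).toMonoidHom (MulAut.conj g⁻¹).injective x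
  simpa using this

theorem orderOf_conj' (x g : G) : orderOf (g * x * g⁻¹) = orderOf x := by
  have := orderOf_conj x g⁻¹
  rwa [inv_inv] at this

/-- **Trivial intersection count.** -/
theorem card_conj_set [Finite G] (X : Set G) (N : Subgroup G)
    (hN : ∀ n ∈ N, ∀ x ∈ X, n⁻¹ * x * n ∈ X)
    (hTI : ∀ x ∈ X, ∀ g : G, g⁻¹ * x * g ∈ X → g ∈ N) :
    Nat.card {y : G // ∃ g : G, g⁻¹ * y * g ∈ X} * Nat.card N = Nat.card G * Nat.card X := by
  classical
  let P := {p : G × G // p.1⁻¹ * p.2 * p.1 ∈ X}
  have h1 : Nat.card P = Nat.card G * Nat.card X := by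
    have e : P ≃ G × X :=
      { toFun := fun p => (p.1.1, ⟨p.1.1⁻¹ * p.1.2 * p.1.1, p.2⟩)
        invFun := fun q => ⟨(q.1, q.1 * (q.2 : G) * q.1⁻¹), by
          have : q.1⁻¹ * (q.1 * (q.2 : G) * q.1⁻¹) * q.1 = (q.2 : G) := by group
          simp only
          rw [this]
          exact q.2.2⟩
        left_inv := by
          rintro ⟨⟨g, x⟩, h⟩
          apply Subtype.ext
          simp only [Prod.mk.injEq, true_and]
          group
        right_inv := by
          rintro ⟨g, ⟨x, hx⟩⟩
          simp only [Prod.mk.injEq, true_and]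
          apply Subtype.ext
          simp only
          group }
    rw [Nat.card_congr e, Nat.card_prod]
  have h2 : Nat.card P = Nat.card {y : G // ∃ g : G, g⁻¹ * y * g ∈ X} * Nat.card N := by
    have e : P ≃ Σ y : {y : G // ∃ g : G, g⁻¹ * y * g ∈ X}, {g : G // g⁻¹ * (y : G) * g ∈ X} :=
      { toFun := fun p => ⟨⟨p.1.2, p.1.1, p.2⟩, ⟨p.1.1, p.2⟩⟩
        invFun := fun s => ⟨(s.2.1, s.1.1), s.2.2⟩
        left_inv := fun p => rfl
        right_inv := fun s => rfl }
    rw [Nat.card_congr e]
    let hft := Fintype.ofFinite {y : G // ∃ g : G, g⁻¹ * y * g ∈ X}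
    rw [Nat.card_sigma]
    have this : ∀ y : {y : G // ∃ g : G, g⁻¹ * y * g ∈ X},
        Nat.card {g : G // g⁻¹ * (y : G) * g ∈ X} = Nat.card N := by
      rintro ⟨y, g₀, hg₀⟩
      apply Nat.card_congr
      refine
        { toFun := fun g => ⟨g₀⁻¹ * g.1, ?_⟩
          invFun := fun n => ⟨g₀ * n.1, ?_⟩
          left_inv := ?_
          right_inv := ?_ }
      · apply hTI _ hg₀
        have : (g₀⁻¹ * g.1)⁻¹ * (g₀⁻¹ * y * g₀) * (g₀⁻¹ * g.1) = g.1⁻¹ * y * g.1 := by group
        rw [this]
        exact g.2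
      · have : (g₀ * n.1)⁻¹ * y * (g₀ * n.1) = n.1⁻¹ * (g₀⁻¹ * y * g₀) * n.1 := by group
        simp only
        rw [this]
        exact hN _ n.2 _ hg₀
      · intro g
        apply Subtype.ext
        simp
      · intro g
        apply Subtype.ext
        simp
    rw [Finset.sum_congr rfl (fun y _ => this y), Finset.sum_const, smul_eq_mul, Finset.card_univ,
      Fintype.card_eq_nat_card]
  rw [← h2, h1]

/-- The elements of order `n` when all of them are conjugate into `X`, the elements of order `n` of a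
subgroup `H`. -/
theorem card_order [Finite G] {n : ℕ} (H N : Subgroup G)
    (hall : ∀ x : G, orderOf x = n → ∃ g : G, g⁻¹ * x * g ∈ H)
    (hN : ∀ k ∈ N, ∀ x ∈ H, orderOf x = n → k⁻¹ * x * k ∈ H)
    (hTI : ∀ x ∈ H, orderOf x = n → ∀ g : G, g⁻¹ * x * g ∈ H → g ∈ N) :
    Nat.card {y : G // orderOf y = n} * Nat.card N = Nat.card G * Nat.card {x : H // orderOf x = n} := by
  have h1 := card_conj_set {x : G | x ∈ H ∧ orderOf x = n} N
    (fun k hk x hx => ⟨hN k hk x hx.1 hx.2, by rw [orderOf_conj]; exact hx.2⟩)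
    (fun x hx g hg => hTI x hx.1 hx.2 g hg.1)
  have h2 : Nat.card {y : G // ∃ g : G, g⁻¹ * y * g ∈ {x : G | x ∈ H ∧ orderOf x = n}} =
      Nat.card {y : G // orderOf y = n} := by
    apply Nat.card_congr
    apply Equiv.subtypeEquivRight
    intro y
    constructor
    · rintro ⟨g, -, hg⟩
      rwa [orderOf_conj] at hg
    · intro hy
      obtain ⟨g, hg⟩ := hall y hy
      exact ⟨g, hg, by rw [orderOf_conj]; exact hy⟩
  have h3 : Nat.card ↥{x : G | x ∈ H ∧ orderOf x = n} = Nat.card {x : H // orderOf x = n} := by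
    apply Nat.card_congr
    refine
      { toFun := fun x => ⟨⟨x.1, x.2.1⟩, by rw [Subgroup.orderOf_mk]; exact x.2.2⟩
        invFun := fun x => ⟨x.1.1, x.1.2, by
          have := x.2
          rwa [← Subgroup.orderOf_coe] at this⟩
        left_inv := fun x => rfl
        right_inv := fun x => rfl }
  rw [h2, h3] at h1
  exact h1

/-- The number of elements of order `n` of a cyclic group. -/
theorem card_orderOf_cyclic {H : Type*} [Group H] [Finite H] [IsCyclic H] {n : ℕ} (hn : n ∣ Nat.card H) :
    Nat.card {x : H // orderOf x = n} = n.totient := by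
  classical
  have := Fintype.ofFinite H
  rw [Nat.card_eq_fintype_card, Fintype.card_subtype]
  apply IsCyclic.card_orderOf_eq_totient
  rwa [Nat.card_eq_fintype_card] at hn

end Cfsg.Agent.H362.TICount
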