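import Mathlib
import Cfsg.Agent.H362.ReeCounts

/-!
# The numbers of elements of given order of the small Ree groups, second part
-/

set_option autoImplicit false
set_option linter.unusedSectionVars false

namespace Cfsg.Agent.H362.ReeCounts2

open Subgroup
open Cfsg.Agent.LieRecognition
open Cfsg.Agent.LieRecognition.ReeInv
open Cfsg.Agent.LieRecognition.ReeTorusB
open Cfsg.Agent.LieRecognition.ReeClass
open Cfsg.Agent.LieRecognition.ReeAbs
open Cfsg.Agent.LieRecognition.ReeSylowThree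
open Cfsg.Agent.LieRecognition.ReeSplit
open Cfsg.Agent.H362.TICount
open Cfsg.Agent.H362.ReeCounts

variable {K : Type*} [Field K] [Fintype K] {G : Type*} [Group G] [Finite G] {m : ℕ}
  {U : K → K → K → G} {h : Kˣ → G} {n : G}
variable {L : Type*} [Group L] {a : G} {f : L →* G} {i j u t₀ : L} {T : Subgroup L}

/-- order dividing `(q-1)/2` -/
theorem count_A (D : Data m U h n) (hK : Fintype.card K = 3 ^ (2 * m + 1))
    (S : Setup G L (3 ^ (2 * m + 1)) a f i j u t₀ T) {k : ℕ}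
    (hk1 : k ≠ 1) (hk : k ∣ (3 ^ (2 * m + 1) - 1) / 2) :
    Nat.card {x : G // orderOf x = k} * (2 * (3 ^ (2 * m + 1) - 1)) = Nat.card G * k.totient := by
  have := isCyclic_aSub D
  have Dl := ReeSetup.local_of_data D hK
  have ar := ReeClass.arith m
  have hne : ∀ x : G, orderOf x = k → x ≠ 1 := by
    rintro x hx rfl
    rw [orderOf_one] at hx
    exact hk1 hx.symm
  have h1 := card_order (n := k) (aSub D) (nSub D)
    (fun x hx => conj_A Dl ar S (hne x hx) (by rw [hx]; exact hk))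
    (fun g hg x hx _ => inv_conj_mem_of_mem_nSub D (aSub_le D) hg hx)
    (fun x hx ho g hg => mem_nSub_of_inv_conj_mem D hK hx (hne x ho) (aSub_le D hg))
  have h2 : Nat.card {x : aSub D // orderOf x = k} = k.totient :=
    card_orderOf_cyclic (by rw [card_aSub D hK]; exact hk)
  rw [card_nSub D, hK, h2] at h1
  exact h1

theorem count_H (D : Data m U h n) (hK : Fintype.card K = 3 ^ (2 * m + 1))
    (S : Setup G L (3 ^ (2 * m + 1)) a f i j u t₀ T) {k : ℕ}
    (hk1 : k ≠ 1) (hk : k ∣ (3 ^ (2 * m + 1) - 1) / 2) :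
    Nat.card {x : G // orderOf x = 2 * k} * (2 * (3 ^ (2 * m + 1) - 1)) = Nat.card G * k.totient := by
  have := isCyclic_hSub D
  have Dl := ReeSetup.local_of_data D hK
  have ar := ReeClass.arith m
  have hkodd : Odd k := (odd_half ar).of_dvd_nat hk
  have hk0 : 0 < k := by
    rcases Nat.eq_zero_or_pos k with h | h
    · rw [h] at hkodd; exact absurd hkodd (by decide)
    · exact h
  have hsq : ∀ x : G, orderOf x = 2 * k → orderOf (x ^ 2) = k := fun x hx => orderOf_sq hx hk0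
  have hne : ∀ x : G, orderOf x = 2 * k → x ^ 2 ≠ 1 := by
    intro x hx h
    have := hsq x hx
    rw [h, orderOf_one] at this
    exact hk1 this.symm
  have h1 := card_order (n := 2 * k) (hSub D) (nSub D)
    (fun x hx => by
      obtain ⟨g, hg⟩ := conj_A Dl ar S (hne x hx) (by rw [hsq x hx]; exact hk)
      refine ⟨g, Dl.cent_A _ hg ?_ _ ?_⟩
      · intro h
        apply hne x hx
        calc x ^ 2 = g * (g⁻¹ * x ^ 2 * g) * g⁻¹ := by group
          _ = 1 := by rw [h]; group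
      · exact conj_commute (by rw [← pow_succ, ← pow_succ']))
    (fun g hg x hx _ => inv_conj_mem_of_mem_nSub D le_rfl hg hx)
    (fun x hx ho g hg => by
      have h2 : x ^ 2 ∈ aSub D := mem_aSub_of_odd D hK ((hSub D).pow_mem hx 2) (by rw [hsq x ho]; exact hkodd)
      have h3 : g⁻¹ * x ^ 2 * g ∈ hSub D := by
        rw [← sq_conj]
        exact (hSub D).pow_mem hg 2
      exact mem_nSub_of_inv_conj_mem D hK h2 (hne x ho) h3)
  have h8 := ar.q8
  have h2 : Nat.card {x : hSub D // orderOf x = 2 * k} = k.totient := by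
    rw [card_orderOf_cyclic, Nat.totient_two_mul_of_odd hkodd]
    rw [card_hSub D, hK]
    have : 3 ^ (2 * m + 1) - 1 = 2 * ((3 ^ (2 * m + 1) - 1) / 2) := by omega
    rw [this]
    exact Nat.mul_dvd_mul_left 2 hk
  rw [card_nSub D, hK, h2] at h1
  exact h1

/-- The elements of order dividing `3` of `U`. -/
theorem cube_eq_one_iff (D : Data m U h n) (hK : Fintype.card K = 3 ^ (2 * m + 1)) (t u v : K) :
    U t u v ^ 3 = 1 ↔ t = 0 := by
  rw [U_cube D hK]
  constructor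
  · intro he
    rw [← D.U_zero] at he
    have h1 := (U_injective D he).2.2
    rw [neg_eq_zero, mul_eq_zero] at h1
    rcases h1 with h1 | h1
    · exact pow_eq_zero_iff two_ne_zero |>.1 h1
    · exact pow_eq_zero_iff (by positivity) |>.1 h1
  · rintro rfl
    simp [D.U_zero]

theorem orderOf_U_eq_three (D : Data m U h n) (hK : Fintype.card K = 3 ^ (2 * m + 1)) (t u v : K) :
    orderOf (U t u v) = 3 ↔ t = 0 ∧ (u ≠ 0 ∨ v ≠ 0) := by
  have : Fact (Nat.Prime 3) := ⟨Nat.prime_three⟩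
  constructor
  · intro ho
    have h1 : U t u v ^ 3 = 1 := by rw [← ho, pow_orderOf_eq_one]
    have h2 := (cube_eq_one_iff D hK t u v).1 h1
    refine ⟨h2, ?_⟩
    by_contra hne
    push Not at hne
    rw [h2, hne.1, hne.2, D.U_zero, orderOf_one] at ho
    omega
  · rintro ⟨rfl, hne⟩
    apply orderOf_eq_prime
    · exact (cube_eq_one_iff D hK 0 u v).2 rfl
    · rw [← D.U_zero]
      intro he
      have h1 := U_injective D he
      rcases hne with h2 | h2
      · exact h2 h1.2.1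
      · exact h2 h1.2.2

theorem orderOf_U_eq_nine (D : Data m U h n) (hK : Fintype.card K = 3 ^ (2 * m + 1)) (t u v : K) :
    orderOf (U t u v) = 9 ↔ t ≠ 0 := by
  have : Fact (Nat.Prime 3) := ⟨Nat.prime_three⟩
  constructor
  · rintro ho rfl
    have h1 := (cube_eq_one_iff D hK 0 u v).2 rfl
    have h2 := orderOf_dvd_of_pow_eq_one h1
    rw [ho] at h2
    exact absurd h2 (by norm_num)
  · intro ht
    rw [show 9 = 3 ^ (1 + 1) by norm_num]
    apply orderOf_eq_prime_pow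
    · rw [pow_one]
      exact fun h => ht ((cube_eq_one_iff D hK t u v).1 h)
    · rw [show 3 ^ (1 + 1) = 9 by norm_num]
      exact pow_nine D hK ⟨t, u, v, rfl⟩

theorem card_prod_three (hK : Fintype.card K = 3 ^ (2 * m + 1)) :
    Nat.card {x : K × K × K // x.1 = 0 ∧ (x.2.1 ≠ 0 ∨ x.2.2 ≠ 0)} = (3 ^ (2 * m + 1)) ^ 2 - 1 := by
  classical
  have e : {x : K × K × K // x.1 = 0 ∧ (x.2.1 ≠ 0 ∨ x.2.2 ≠ 0)} ≃ {y : K × K // y ≠ 0} :=
    { toFun := fun x => ⟨x.1.2, by
        intro h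
        rcases x.2.2 with h1 | h1
        · exact h1 (by rw [h]; rfl)
        · exact h1 (by rw [h]; rfl)⟩
      invFun := fun y => ⟨(0, y.1), rfl, by
        by_contra hne
        push Not at hne
        exact y.2 (Prod.ext hne.1 hne.2)⟩
      left_inv := by
        rintro ⟨⟨t, u, v⟩, h1, h2⟩
        simp only at h1
        subst h1
        rfl
      right_inv := fun y => rfl }
  rw [Nat.card_congr e, Nat.card_eq_fintype_card, Fintype.card_subtype_compl]
  simp [Fintype.card_prod, hK, pow_two]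

theorem card_prod_nine (hK : Fintype.card K = 3 ^ (2 * m + 1)) :
    Nat.card {x : K × K × K // x.1 ≠ 0} = (3 ^ (2 * m + 1)) ^ 2 * (3 ^ (2 * m + 1) - 1) := by
  classical
  have e : {x : K × K × K // x.1 ≠ 0} ≃ {t : K // t ≠ 0} × K × K :=
    { toFun := fun x => (⟨x.1.1, x.2⟩, x.1.2)
      invFun := fun y => ⟨(y.1.1, y.2), y.1.2⟩
      left_inv := fun x => rfl
      right_inv := fun y => rfl }
  rw [Nat.card_congr e, Nat.card_prod, Nat.card_prod, Nat.card_eq_fintype_card, Nat.card_eq_fintype_card,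
    Fintype.card_subtype_compl]
  simp [hK]
  ring

theorem card_uSub_three (D : Data m U h n) (hK : Fintype.card K = 3 ^ (2 * m + 1)) :
    Nat.card {x : uSub D // orderOf x = 3} = (3 ^ (2 * m + 1)) ^ 2 - 1 := by
  rw [← card_prod_three hK]
  symm
  apply Nat.card_congr
  have hU : ∀ t u v, U t u v ∈ uSub D := fun t u v => ⟨t, u, v, rfl⟩
  refine Equiv.ofBijective (fun x => ⟨⟨U x.1.1 x.1.2.1 x.1.2.2, hU _ _ _⟩, by
    rw [Subgroup.orderOf_mk, orderOf_U_eq_three D hK]
    exact x.2⟩) ⟨?_, ?_⟩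
  · rintro ⟨⟨t, u, v⟩, h1⟩ ⟨⟨t', u', v'⟩, h2⟩ he
    have h3 : U t u v = U t' u' v' := congrArg (fun x => ((x.1 : uSub D) : G)) he
    obtain ⟨rfl, rfl, rfl⟩ := U_injective D h3
    rfl
  · rintro ⟨⟨x, hx⟩, ho⟩
    have ho' := ho
    obtain ⟨t, u, v, rfl⟩ := id hx
    rw [Subgroup.orderOf_mk, orderOf_U_eq_three D hK] at ho'
    exact ⟨⟨(t, u, v), ho'⟩, rfl⟩

theorem card_uSub_nine (D : Data m U h n) (hK : Fintype.card K = 3 ^ (2 * m + 1)) :
    Nat.card {x : uSub D // orderOf x = 9} = (3 ^ (2 * m + 1)) ^ 2 * (3 ^ (2 * m + 1) - 1) := by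
  rw [← card_prod_nine hK]
  symm
  apply Nat.card_congr
  have hU : ∀ t u v, U t u v ∈ uSub D := fun t u v => ⟨t, u, v, rfl⟩
  refine Equiv.ofBijective (fun x => ⟨⟨U x.1.1 x.1.2.1 x.1.2.2, hU _ _ _⟩, by
    rw [Subgroup.orderOf_mk, orderOf_U_eq_nine D hK]
    exact x.2⟩) ⟨?_, ?_⟩
  · rintro ⟨⟨t, u, v⟩, h1⟩ ⟨⟨t', u', v'⟩, h2⟩ he
    have h3 : U t u v = U t' u' v' := congrArg (fun x => ((x.1 : uSub D) : G)) he
    obtain ⟨rfl, rfl, rfl⟩ := U_injective D h3
    rfl
  · rintro ⟨⟨x, hx⟩, ho⟩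
    have ho' := ho
    obtain ⟨t, u, v, rfl⟩ := id hx
    rw [Subgroup.orderOf_mk, orderOf_U_eq_nine D hK] at ho'
    exact ⟨⟨(t, u, v), ho'⟩, rfl⟩

theorem count_three (D : Data m U h n) (hK : Fintype.card K = 3 ^ (2 * m + 1))
    (S : Setup G L (3 ^ (2 * m + 1)) a f i j u t₀ T) :
    Nat.card {x : G // orderOf x = 3} = ((3 ^ (2 * m + 1)) ^ 3 + 1) * ((3 ^ (2 * m + 1)) ^ 2 - 1) := by
  have Dl := ReeSetup.local_of_data D hK
  have ar := ReeClass.arith m
  have hne : ∀ x : G, orderOf x = 3 → x ≠ 1 := by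
    rintro x hx rfl
    rw [orderOf_one] at hx
    omega
  have h1 := card_order (n := 3) (uSub D) (bSub D)
    (fun x hx => conj_U Dl ar S (hne x hx) (by rw [hx]; norm_num))
    (fun g hg x hx _ => Dl.B_U g hg x hx)
    (fun x hx ho g hg => Dl.TI_U x hx (hne x ho) g hg)
  rw [Dl.card_B, Dl.card_G, card_uSub_three D hK] at h1
  have h8 := ar.q8
  have hpos : 0 < (3 ^ (2 * m + 1)) ^ 3 * (3 ^ (2 * m + 1) - 1) := by
    apply Nat.mul_pos (by positivity)
    omega
  apply Nat.eq_of_mul_eq_mul_right hpos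
  rw [h1]
  ring

theorem count_nine (D : Data m U h n) (hK : Fintype.card K = 3 ^ (2 * m + 1))
    (S : Setup G L (3 ^ (2 * m + 1)) a f i j u t₀ T) :
    Nat.card {x : G // orderOf x = 9} =
      (3 ^ (2 * m + 1)) ^ 2 * ((3 ^ (2 * m + 1)) ^ 3 + 1) * (3 ^ (2 * m + 1) - 1) := by
  have Dl := ReeSetup.local_of_data D hK
  have ar := ReeClass.arith m
  have hne : ∀ x : G, orderOf x = 9 → x ≠ 1 := by
    rintro x hx rfl
    rw [orderOf_one] at hx
    omega
  have h1 := card_order (n := 9) (uSub D) (bSub D)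
    (fun x hx => conj_U Dl ar S (hne x hx) (by rw [hx]))
    (fun g hg x hx _ => Dl.B_U g hg x hx)
    (fun x hx ho g hg => Dl.TI_U x hx (hne x ho) g hg)
  rw [Dl.card_B, Dl.card_G, card_uSub_nine D hK] at h1
  have h8 := ar.q8
  have hpos : 0 < (3 ^ (2 * m + 1)) ^ 3 * (3 ^ (2 * m + 1) - 1) := by
    apply Nat.mul_pos (by positivity)
    omega
  apply Nat.eq_of_mul_eq_mul_right hpos
  rw [h1]
  ring

/-! ### Elements of order six -/

theorem exists_pow (D : Data m U h n) (t u v : K) (a : Kˣ) (k : ℕ) :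
    ∃ t' u' v', (U t u v * h a) ^ k = U t' u' v' * h (a ^ k) := by
  induction k with
  | zero => exact ⟨0, 0, 0, by rw [pow_zero, pow_zero, D.U_zero, D.h_one, one_mul]⟩
  | succ k ih =>
    obtain ⟨t', u', v', hk⟩ := ih
    obtain ⟨t₁, u₁, v₁, h1⟩ := h_conj_mem D (a ^ k) (x := U t u v) ⟨t, u, v, rfl⟩
    obtain ⟨t₂, u₂, v₂, h2⟩ := (uSub D).mul_mem (⟨t', u', v', rfl⟩ : U t' u' v' ∈ uSub D) ⟨t₁, u₁, v₁, rfl⟩
    refine ⟨t₂, u₂, v₂, ?_⟩
    rw [pow_succ, hk, pow_succ, D.h_mul, ← h2, ← h1]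
    group

theorem mul_sq (D : Data m U h n) (hK : Fintype.card K = 3 ^ (2 * m + 1)) (t u v : K) :
    (U t u v * h (-1)) ^ 2 =
      U 0 (t * t ^ 3 ^ (m + 1) - u) (t * (u - t * t ^ 3 ^ (m + 1))) := by
  have h3 := three_eq_zero hK
  have e1 : (-1 : K) ^ 3 ^ (m + 1) = -1 := (Odd.pow (by decide)).neg_one_pow
  have e2 : (-1 : K) ^ (3 ^ (m + 1) + 3) = 1 := by
    apply Even.neg_one_pow
    exact (Odd.pow (by decide)).add_odd (by decide)
  have e3 : (-1 : K) ^ (2 * 3 ^ (m + 1) + 3) = -1 := by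
    apply Odd.neg_one_pow
    exact Even.add_odd (even_two_mul _) (by decide)
  have e4 : (-t) ^ 3 ^ (m + 1) = - t ^ 3 ^ (m + 1) := (Odd.pow (by decide)).neg_pow t
  have h1 : (U t u v * h (-1)) ^ 2 = U t u v * (h (-1) * U t u v) * h (-1) := by
    rw [pow_two]; group
  rw [h1, D.h_U]
  simp only [Units.val_neg, Units.val_one, e1, e2, e3]
  have h2 : U t u v * (U (-1 * t) (1 * u) (-1 * v) * h (-1)) * h (-1) =
      U t u v * U (-1 * t) (1 * u) (-1 * v) * (h (-1) * h (-1)) := by group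
  rw [h2, D.inv_sq, mul_one, D.U_mul]
  have e5 : (-1 * t) ^ 3 ^ (m + 1) = - t ^ 3 ^ (m + 1) := by rw [neg_one_mul, e4]
  rw [e5]
  congr 1
  · ring
  · linear_combination u * h3
  · linear_combination t * t * t ^ 3 ^ (m + 1) * h3

theorem not_mem_of_neg (D : Data m U h n) (hK : Fintype.card K = 3 ^ (2 * m + 1)) (t u v t' u' v' : K) :
    U t u v * h (-1) ≠ U t' u' v' := by
  intro he
  have h1 : U t u v * h (-1) = U t' u' v' * h 1 := by rw [he, D.h_one, mul_one]
  have h2 := (D.inj₁ _ _ _ _ _ _ _ _ h1).2.2.2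
  apply neg_one_ne_one hK
  have := congrArg Units.val h2
  simpa using this

/-- Elements of order six of the Borel subgroup. -/
theorem orderOf_eq_six (D : Data m U h n) (hK : Fintype.card K = 3 ^ (2 * m + 1)) (t u v : K) :
    orderOf (U t u v * h (-1)) = 6 ↔ u ≠ t * t ^ 3 ^ (m + 1) := by
  have h0 : U (0 : K) 0 0 = 1 := D.U_zero
  have hsq := mul_sq D hK t u v
  constructor
  · rintro ho rfl
    rw [sub_self, mul_zero, h0] at hsq
    have := orderOf_dvd_of_pow_eq_one hsq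
    rw [ho] at this
    exact absurd this (by norm_num)
  · intro hne
    have ho : orderOf ((U t u v * h (-1)) ^ 2) = 3 := by
      rw [hsq, orderOf_U_eq_three D hK]
      exact ⟨rfl, Or.inl (fun h => hne (sub_eq_zero.1 h).symm)⟩
    have h6 : (U t u v * h (-1)) ^ 6 = 1 := by
      have : (6 : ℕ) = 2 * 3 := by norm_num
      rw [this, pow_mul, ← ho, pow_orderOf_eq_one]
    have hd := orderOf_dvd_of_pow_eq_one h6
    have h3 : (3 : ℕ) ∣ orderOf (U t u v * h (-1)) := by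
      rw [← ho]
      exact orderOf_pow_dvd 2
    have hn3 : orderOf (U t u v * h (-1)) ≠ 3 := by
      intro hh
      have h4 : (U t u v * h (-1)) ^ 3 = 1 := by rw [← hh, pow_orderOf_eq_one]
      obtain ⟨t', u', v', h5⟩ := exists_pow D t u v (-1) 3
      rw [h4] at h5
      have h7 : (-1 : Kˣ) ^ 3 = -1 := by
        rw [pow_succ, pow_two, neg_one_mul, neg_neg, one_mul]
      rw [h7] at h5
      exact not_mem_of_neg D hK t' u' v' 0 0 0 (by rw [← h5, h0])
    have hle := Nat.le_of_dvd (by norm_num) hd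
    generalize hkk : orderOf (U t u v * h (-1)) = k at h3 hn3 hd hle
    obtain ⟨c, rfl⟩ := h3
    have hc : c ≤ 2 := by omega
    interval_cases c <;> omega

theorem card_prod_six (hK : Fintype.card K = 3 ^ (2 * m + 1)) :
    Nat.card {x : K × K × K // x.2.1 ≠ x.1 * x.1 ^ 3 ^ (m + 1)} =
      (3 ^ (2 * m + 1)) ^ 2 * (3 ^ (2 * m + 1) - 1) := by
  classical
  have e : {x : K × K × K // x.2.1 ≠ x.1 * x.1 ^ 3 ^ (m + 1)} ≃ {t : K // t ≠ 0} × K × K :=
    { toFun := fun x => (⟨x.1.2.1 - x.1.1 * x.1.1 ^ 3 ^ (m + 1), sub_ne_zero.2 x.2⟩, x.1.1, x.1.2.2)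
      invFun := fun y => ⟨(y.2.1, y.1.1 + y.2.1 * y.2.1 ^ 3 ^ (m + 1), y.2.2), by
        simp only [ne_eq, add_eq_right]
        exact y.1.2⟩
      left_inv := by
        rintro ⟨⟨t, u, v⟩, h1⟩
        simp
      right_inv := by
        rintro ⟨⟨s, hs⟩, t, v⟩
        simp }
  rw [Nat.card_congr e, Nat.card_prod, Nat.card_prod, Nat.card_eq_fintype_card, Nat.card_eq_fintype_card,
    Fintype.card_subtype_compl]
  simp [hK]
  ring

/-- `x` of order six in the Borel subgroup is of the form `U t u v * h (-1)`. -/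
theorem exists_of_order_six (D : Data m U h n) (hK : Fintype.card K = 3 ^ (2 * m + 1)) {x : G}
    (hx : x ∈ bSub D) (ho : orderOf x = 6) : ∃ t u v, x = U t u v * h (-1) := by
  obtain ⟨t, u, v, a, rfl⟩ := hx
  obtain ⟨t', u', v', h5⟩ := exists_pow D t u v a 6
  have h6 : (U t u v * h a) ^ 6 = 1 := by rw [← ho, pow_orderOf_eq_one]
  rw [h6] at h5
  have h7 : U (0 : K) 0 0 * h 1 = U t' u' v' * h (a ^ 6) := by rw [← h5, D.U_zero, D.h_one, mul_one]
  have h8 : a ^ 6 = 1 := (D.inj₁ _ _ _ _ _ _ _ _ h7).2.2.2.symm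
  have h9 : (a ^ 2) ^ 3 ^ 1 = 1 := by rw [pow_one, ← pow_mul]; exact h8
  have h10 : a ^ 2 = 1 := eq_one_of_pow_three hK 1 _ h9
  rcases eq_one_or_neg_one_of_sq h10 with rfl | rfl
  · exfalso
    have h11 : (U t u v) ^ 9 = 1 := pow_nine D hK ⟨t, u, v, rfl⟩
    rw [D.h_one, mul_one] at ho
    have := orderOf_dvd_of_pow_eq_one h11
    rw [ho] at this
    exact absurd this (by norm_num)
  · exact ⟨t, u, v, rfl⟩

theorem card_bSub_six (D : Data m U h n) (hK : Fintype.card K = 3 ^ (2 * m + 1)) :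
    Nat.card {x : bSub D // orderOf x = 6} = (3 ^ (2 * m + 1)) ^ 2 * (3 ^ (2 * m + 1) - 1) := by
  rw [← card_prod_six hK]
  symm
  apply Nat.card_congr
  refine Equiv.ofBijective (fun x => ⟨⟨U x.1.1 x.1.2.1 x.1.2.2 * h (-1),
    (mem_bSub D).2 ⟨x.1.1, x.1.2.1, x.1.2.2, -1, rfl⟩⟩, by
    rw [Subgroup.orderOf_mk, orderOf_eq_six D hK]
    exact x.2⟩) ⟨?_, ?_⟩
  · rintro ⟨⟨t, u, v⟩, h1⟩ ⟨⟨t', u', v'⟩, h2⟩ he
    have h3 : U t u v * h (-1) = U t' u' v' * h (-1) := congrArg (fun x => ((x.1 : bSub D) : G)) he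
    obtain ⟨rfl, rfl, rfl⟩ := U_injective D (mul_right_cancel h3)
    rfl
  · rintro ⟨⟨x, hx⟩, ho⟩
    rw [Subgroup.orderOf_mk] at ho
    obtain ⟨t, u, v, rfl⟩ := exists_of_order_six D hK hx ho
    rw [orderOf_eq_six D hK] at ho
    exact ⟨⟨(t, u, v), ho⟩, rfl⟩

theorem count_six (D : Data m U h n) (hK : Fintype.card K = 3 ^ (2 * m + 1))
    (S : Setup G L (3 ^ (2 * m + 1)) a f i j u t₀ T) :
    Nat.card {x : G // orderOf x = 6} =
      (3 ^ (2 * m + 1)) ^ 2 * ((3 ^ (2 * m + 1)) ^ 3 + 1) * (3 ^ (2 * m + 1) - 1) := by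
  have Dl := ReeSetup.local_of_data D hK
  have ar := ReeClass.arith m
  have hsq : ∀ x : G, orderOf x = 6 → orderOf (x ^ 2) = 3 := fun x hx => orderOf_sq hx (by norm_num)
  have hne : ∀ x : G, orderOf x = 6 → x ^ 2 ≠ 1 := by
    intro x hx h
    have := hsq x hx
    rw [h, orderOf_one] at this
    omega
  have hsqU : ∀ x : G, x ∈ bSub D → orderOf x = 6 → x ^ 2 ∈ uSub D := by
    intro x hx ho
    obtain ⟨t, u, v, rfl⟩ := exists_of_order_six D hK hx ho
    rw [mul_sq D hK]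
    exact ⟨_, _, _, rfl⟩
  have h1 := card_order (n := 6) (bSub D) (bSub D)
    (fun x hx => by
      obtain ⟨g, hg⟩ := conj_U Dl ar S (hne x hx) (by rw [hsq x hx]; norm_num)
      refine ⟨g, ?_⟩
      have h2 : g⁻¹ * x ^ 2 * g ≠ 1 := by
        intro h
        apply hne x hx
        calc x ^ 2 = g * (g⁻¹ * x ^ 2 * g) * g⁻¹ := by group
          _ = 1 := by rw [h]; group
      have h3 : (g⁻¹ * x * g) * (g⁻¹ * x ^ 2 * g) = (g⁻¹ * x ^ 2 * g) * (g⁻¹ * x * g) :=
        conj_commute (by rw [← pow_succ, ← pow_succ'])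
      rcases mem_or_of_commute D hK hg h2 h3 with h4 | ⟨v, hv, h4⟩
      · exact uSub_le_bSub D h4
      · rw [h4]
        exact (bSub D).mul_mem (uSub_le_bSub D hv) (h_mem_bSub D _))
    (fun g hg x hx _ => (bSub D).mul_mem ((bSub D).mul_mem ((bSub D).inv_mem hg) hx) hg)
    (fun x hx ho g hg => by
      refine Dl.TI_U _ (hsqU x hx ho) (hne x ho) g ?_
      rw [← sq_conj]
      exact hsqU _ hg (by rw [TICount.orderOf_conj]; exact ho))
  rw [Dl.card_B, Dl.card_G, card_bSub_six D hK] at h1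
  have h8 := ar.q8
  have hpos : 0 < (3 ^ (2 * m + 1)) ^ 3 * (3 ^ (2 * m + 1) - 1) := by
    apply Nat.mul_pos (by positivity)
    omega
  apply Nat.eq_of_mul_eq_mul_right hpos
  rw [h1]
  ring

/-! ### The self-centralising tori -/

/-- order dividing the order of a self-centralising cyclic subgroup -/
theorem count_torus {A₁ : Subgroup G} [IsCyclic A₁] (hc : ∀ x ∈ A₁, x ≠ 1 → centralizer {x} = A₁)
    {k : ℕ} (hk1 : k ≠ 1) (hk : k ∣ Nat.card A₁)
    (hall : ∀ x : G, orderOf x = k → ∃ g : G, g⁻¹ * x * g ∈ A₁) :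
    Nat.card {x : G // orderOf x = k} * Nat.card (normalizer (A₁ : Set G)) = Nat.card G * k.totient := by
  have hne : ∀ x : G, orderOf x = k → x ≠ 1 := by
    rintro x hx rfl
    rw [orderOf_one] at hx
    exact hk1 hx.symm
  have h1 := card_order (n := k) A₁ (normalizer (A₁ : Set G)) hall
    (fun g hg x hx _ => (mem_normalizer_iff''.mp hg x).mp hx)
    (fun x hx ho g hg => by
      have hx1 := hne x ho
      have h2 : g⁻¹ * x * g ≠ 1 := by
        intro h
        apply hx1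
        calc x = g * (g⁻¹ * x * g) * g⁻¹ := by group
          _ = 1 := by rw [h]; group
      rw [mem_normalizer_iff'']
      intro y
      have e1 : y ∈ A₁ ↔ y * x = x * y := by
        rw [← hc x hx hx1, mem_centralizer_singleton_iff]
      have e2 : g⁻¹ * y * g ∈ A₁ ↔ g⁻¹ * y * g * (g⁻¹ * x * g) = g⁻¹ * x * g * (g⁻¹ * y * g) := by
        rw [← hc _ hg h2, mem_centralizer_singleton_iff]
      refine e1.trans (Iff.trans ?_ e2.symm)
      constructor
      · intro h
        calc g⁻¹ * y * g * (g⁻¹ * x * g) = g⁻¹ * (y * x) * g := by group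
          _ = g⁻¹ * (x * y) * g := by rw [h]
          _ = g⁻¹ * x * g * (g⁻¹ * y * g) := by group
      · intro h
        calc y * x = g * (g⁻¹ * y * g * (g⁻¹ * x * g)) * g⁻¹ := by group
          _ = g * (g⁻¹ * x * g * (g⁻¹ * y * g)) * g⁻¹ := by rw [h]
          _ = x * y := by group)
  rw [card_orderOf_cyclic hk] at h1
  exact h1

end Cfsg.Agent.H362.ReeCounts2
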