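import Cfsg.Agent.H362.CfgLin
import Cfsg.Agent.H749.Herm

/-!
# Configurations in `PSU_4(q)`, `q` a power of 2 or 3 (helper362)

`exists_hom`: the group of matrices over the prime field preserving an invertible (skew-)symmetric matrix `H`
embeds into `SU_4(q)`.
-/

set_option autoImplicit false
set_option maxRecDepth 10000

namespace Cfsg.Agent.H362.CfgUni

open Matrix Cfsg Cfsg.Agent.ClassicalGeometry Cfsg.Agent.H749

/-- matrices over the prime field preserving `H` -/
def isoSub {p : ℕ} (H : Matrix (Fin 4) (Fin 4) (ZMod p)) : Subgroup (Matrix.SpecialLinearGroup (Fin 4) (ZMod p)) where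
  carrier := {g | (g : Matrix (Fin 4) (Fin 4) (ZMod p))ᵀ * H * g = H}
  one_mem' := by
    change ((1 : Matrix (Fin 4) (Fin 4) (ZMod p)))ᵀ * H * 1 = H
    rw [transpose_one, one_mul, mul_one]
  mul_mem' := by
    intro a b ha hb
    change (a : Matrix (Fin 4) (Fin 4) (ZMod p))ᵀ * H * a = H at ha
    change (b : Matrix (Fin 4) (Fin 4) (ZMod p))ᵀ * H * b = H at hb
    change ((a : Matrix (Fin 4) (Fin 4) (ZMod p)) * (b : Matrix (Fin 4) (Fin 4) (ZMod p)))ᵀ * H *
      ((a : Matrix (Fin 4) (Fin 4) (ZMod p)) * (b : Matrix (Fin 4) (Fin 4) (ZMod p))) = H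
    rw [transpose_mul]
    generalize (a : Matrix (Fin 4) (Fin 4) (ZMod p)) = A at *
    generalize (b : Matrix (Fin 4) (Fin 4) (ZMod p)) = B at *
    calc Bᵀ * Aᵀ * H * (A * B) = Bᵀ * (Aᵀ * H * A) * B := by simp only [Matrix.mul_assoc]
      _ = H := by rw [ha, hb]
  inv_mem' := by
    intro a ha
    change (a : Matrix (Fin 4) (Fin 4) (ZMod p))ᵀ * H * a = H at ha
    change ((a⁻¹ : Matrix.SpecialLinearGroup (Fin 4) (ZMod p)) : Matrix (Fin 4) (Fin 4) (ZMod p))ᵀ * H *
      ((a⁻¹ : Matrix.SpecialLinearGroup (Fin 4) (ZMod p)) : Matrix (Fin 4) (Fin 4) (ZMod p)) = H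
    have h1 : (a : Matrix (Fin 4) (Fin 4) (ZMod p)) *
        ((a⁻¹ : Matrix.SpecialLinearGroup (Fin 4) (ZMod p)) : Matrix (Fin 4) (Fin 4) (ZMod p)) = 1 := by
      rw [← Matrix.SpecialLinearGroup.coe_mul, mul_inv_cancel, Matrix.SpecialLinearGroup.coe_one]
    set b := ((a⁻¹ : Matrix.SpecialLinearGroup (Fin 4) (ZMod p)) : Matrix (Fin 4) (Fin 4) (ZMod p))
    have h2 : bᵀ * (a : Matrix (Fin 4) (Fin 4) (ZMod p))ᵀ = 1 := by rw [← transpose_mul, h1, transpose_one]
    calc bᵀ * H * b = bᵀ * ((a : Matrix (Fin 4) (Fin 4) (ZMod p))ᵀ * H * a) * b := by rw [ha]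
      _ = (bᵀ * (a : Matrix (Fin 4) (Fin 4) (ZMod p))ᵀ) * H * (a * b) := by simp only [Matrix.mul_assoc]
      _ = H := by rw [h1, h2, one_mul, mul_one]

theorem mem_isoSub {p : ℕ} {H : Matrix (Fin 4) (Fin 4) (ZMod p)} {g : Matrix.SpecialLinearGroup (Fin 4) (ZMod p)} :
    g ∈ isoSub H ↔ (g : Matrix (Fin 4) (Fin 4) (ZMod p))ᵀ * H * g = H := Iff.rfl

/-- **The embedding.** -/
theorem exists_hom {p : ℕ} [Fact p.Prime] {F : Type*} [Field F] [Fintype F] [CharP F p] {q : ℕ}
    (hF : Fintype.card F = q ^ 2) (H K : Matrix (Fin 4) (Fin 4) (ZMod p)) (hHK : H * K = 1) {δ : F} (hδ : δ ≠ 0)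
    {ε : ZMod p} (hH : Hᵀ = ε • H) (hεδ : δ ^ q = δ * ZMod.castHom (dvd_refl p) F ε) :
    ∃ Φ : isoSub H →* SU 4 F q, Function.Injective Φ ∧
      ∀ n : isoSub H, ((n : Matrix.SpecialLinearGroup (Fin 4) (ZMod p)) : Matrix (Fin 4) (Fin 4) (ZMod p)) = -1 →
        Φ n ∈ Subgroup.center (SU 4 F q) := by
  classical
  obtain ⟨σ, hσ⟩ := GUBasic.exists_powHom hF
  set φ := ZMod.castHom (dvd_refl p) F with hφ
  have hφi : Function.Injective φ := ZMod.castHom_injective F
  have hσφ : ∀ x, σ (φ x) = φ x := fun x => by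
    exact RingHom.congr_fun (RingHom.ext_zmod (σ.comp φ) φ) x
  have hσφ' : ∀ x, φ x ^ q = φ x := fun x => by rw [← hσ, hσφ]
  set Hc := H.map φ with hHc
  have hKc : Hc * K.map φ = 1 := by
    rw [hHc, ← Matrix.map_mul, hHK, Matrix.map_one _ (map_zero _) (map_one _)]
  have hHt : Hcᵀ = φ ε • Hc := by
    ext i j
    have h1 := congrFun (congrFun hH i) j
    rw [transpose_apply, Matrix.smul_apply, smul_eq_mul] at h1
    rw [transpose_apply, Matrix.smul_apply, smul_eq_mul, hHc, Matrix.map_apply, Matrix.map_apply, h1, map_mul]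
  -- the form
  let b : (Fin 4 → F) → (Fin 4 → F) → F := fun u v => δ * (u ⬝ᵥ (Hc *ᵥ fun i => σ (v i)))
  have hsmul : ∀ (c : F) (u v : Fin 4 → F), b (c • u) v = c * b u v := by
    intro c u v
    simp only [b, smul_dotProduct, smul_eq_mul]
    ring
  have hb : HermF σ b := by
    refine ⟨?_, hsmul, ?_, ?_⟩
    · intro u u' v
      simp only [b, add_dotProduct, mul_add]
    · intro u v
      have e1 : σ (u ⬝ᵥ (Hc *ᵥ fun i => σ (v i))) = (fun i => σ (u i)) ⬝ᵥ (Hc *ᵥ v) := by
        simp only [dotProduct, mulVec, map_sum, map_mul]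
        refine Finset.sum_congr rfl fun i _ => ?_
        congr 1
        refine Finset.sum_congr rfl fun j _ => ?_
        rw [hHc, Matrix.map_apply, hσφ, sigma_sigma hF hσ]
      simp only [b]
      rw [map_mul, e1, hσ δ, dotProduct_mulVec, dotProduct_comm, ← mulVec_transpose, hHt, smul_mulVec,
        dotProduct_smul, smul_eq_mul, hεδ]
      ring
    · intro u hu
      have h1 : u ᵥ* Hc = 0 := by
        funext i
        have h2 := hu (Pi.single i 1)
        simp only [b] at h2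
        rcases mul_eq_zero.1 h2 with h3 | h3
        · exact absurd h3 hδ
        · rw [dotProduct_mulVec] at h3
          have h4 : (fun j => σ ((Pi.single i 1 : Fin 4 → F) j)) = Pi.single i 1 := by
            funext j
            by_cases hj : j = i
            · subst hj
              simp
            · simp [Pi.single_eq_of_ne hj]
          rw [h4, dotProduct_single, mul_one] at h3
          exact h3
      calc u = u ᵥ* (Hc * K.map φ) := by rw [hKc, vecMul_one]
        _ = 0 := by rw [← vecMul_vecMul, h1, zero_vecMul]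
  obtain ⟨j, hj⟩ := hb.exists_iso (sigma_ne hF hσ) (sigma_sigma hF hσ) hσ (n := 4) (by simp)
  set P : Matrix (Fin 4) (Fin 4) F := LinearMap.toMatrix' j.toLinearMap with hP
  set Q : Matrix (Fin 4) (Fin 4) F := LinearMap.toMatrix' j.symm.toLinearMap with hQ
  have hPv : ∀ v, P *ᵥ v = j v := fun v => by rw [hP, LinearMap.toMatrix'_mulVec]; rfl
  have hPQ : P * Q = 1 := by
    rw [hP, hQ, ← LinearMap.toMatrix'_comp]
    rw [show j.toLinearMap ∘ₗ j.symm.toLinearMap = LinearMap.id from by ext1; simp, LinearMap.toMatrix'_id]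
  have hQP : Q * P = 1 := mul_eq_one_comm.1 hPQ
  have hdet : P.det * Q.det = 1 := by rw [← det_mul, hPQ, det_one]
  -- the matrices
  let M : Matrix.SpecialLinearGroup (Fin 4) (ZMod p) →* Matrix.SpecialLinearGroup (Fin 4) F :=
    { toFun := fun g => ⟨Q * (g : Matrix (Fin 4) (Fin 4) (ZMod p)).map φ * P, by
        have h1 : ((g : Matrix (Fin 4) (Fin 4) (ZMod p)).map φ).det = 1 := by
          rw [← RingHom.mapMatrix_apply, ← RingHom.map_det, g.2, map_one]
        rw [det_mul, det_mul, h1, mul_one, mul_comm, hdet]⟩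
      map_one' := by
        apply Subtype.ext
        change Q * (1 : Matrix (Fin 4) (Fin 4) (ZMod p)).map φ * P = 1
        rw [Matrix.map_one _ (map_zero _) (map_one _), mul_one, hQP]
      map_mul' := by
        intro g h
        apply Subtype.ext
        change Q * ((g : Matrix (Fin 4) (Fin 4) (ZMod p)) * h).map φ * P =
          (Q * (g : Matrix (Fin 4) (Fin 4) (ZMod p)).map φ * P) * (Q * (h : Matrix (Fin 4) (Fin 4) (ZMod p)).map φ * P)
        rw [Matrix.map_mul]
        calc Q * ((g : Matrix (Fin 4) (Fin 4) (ZMod p)).map φ * (h : Matrix (Fin 4) (Fin 4) (ZMod p)).map φ) * P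
            = Q * (g : Matrix (Fin 4) (Fin 4) (ZMod p)).map φ * 1 * (h : Matrix (Fin 4) (Fin 4) (ZMod p)).map φ * P := by
              rw [mul_one]; simp only [Matrix.mul_assoc]
          _ = _ := by rw [← hPQ]; simp only [Matrix.mul_assoc] }
  have hM : ∀ g, (M g : Matrix (Fin 4) (Fin 4) F) = Q * (g : Matrix (Fin 4) (Fin 4) (ZMod p)).map φ * P := fun g => rfl
  have hpres : ∀ g ∈ isoSub H, M g ∈ SU 4 F q := by
    intro g hg u v
    rw [mem_isoSub] at hg
    change hermForm 4 F q ((M g : Matrix (Fin 4) (Fin 4) F) *ᵥ u) ((M g : Matrix (Fin 4) (Fin 4) F) *ᵥ v) = _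
    have h1 : ∀ w, j ((M g : Matrix (Fin 4) (Fin 4) F) *ᵥ w) = (g : Matrix (Fin 4) (Fin 4) (ZMod p)).map φ *ᵥ (j w) := by
      intro w
      rw [← hPv, ← hPv, mulVec_mulVec, mulVec_mulVec, hM, ← Matrix.mul_assoc, ← Matrix.mul_assoc, hPQ, one_mul]
    rw [← hj, ← hj, h1, h1]
    set G := (g : Matrix (Fin 4) (Fin 4) (ZMod p)).map φ with hG
    have hGH : Gᵀ * Hc * G = Hc := by
      have h2 := congrArg (fun A : Matrix (Fin 4) (Fin 4) (ZMod p) => A.map φ) hg
      simp only [Matrix.map_mul] at h2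
      rw [hG, hHc]
      exact h2
    have h2 : ∀ w : Fin 4 → F, (fun i => σ ((G *ᵥ w) i)) = G *ᵥ fun i => σ (w i) := by
      intro w
      funext i
      simp only [mulVec, dotProduct, map_sum, map_mul]
      refine Finset.sum_congr rfl fun k _ => ?_
      rw [hG, Matrix.map_apply, hσφ]
    simp only [b]
    rw [h2, mulVec_mulVec]
    congr 1
    rw [← vecMul_transpose, ← dotProduct_mulVec, mulVec_mulVec, ← Matrix.mul_assoc, hGH]
  let Φ : isoSub H →* SU 4 F q := (M.comp (isoSub H).subtype).codRestrict (SU 4 F q) fun g => hpres g g.2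
  have hΦ : ∀ g, ((Φ g : Matrix.SpecialLinearGroup (Fin 4) F) : Matrix (Fin 4) (Fin 4) F) =
      Q * ((g : Matrix.SpecialLinearGroup (Fin 4) (ZMod p)) : Matrix (Fin 4) (Fin 4) (ZMod p)).map φ * P := fun g => rfl
  refine ⟨Φ, ?_, ?_⟩
  · intro g h hgh
    have h1 : Q * ((h : Matrix.SpecialLinearGroup (Fin 4) (ZMod p)) : Matrix (Fin 4) (Fin 4) (ZMod p)).map φ * P =
        Q * ((g : Matrix.SpecialLinearGroup (Fin 4) (ZMod p)) : Matrix (Fin 4) (Fin 4) (ZMod p)).map φ * P := by
      rw [← hΦ, ← hΦ, hgh]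
    have h2 : ((h : Matrix.SpecialLinearGroup (Fin 4) (ZMod p)) : Matrix (Fin 4) (Fin 4) (ZMod p)).map φ =
        ((g : Matrix.SpecialLinearGroup (Fin 4) (ZMod p)) : Matrix (Fin 4) (Fin 4) (ZMod p)).map φ := by
      have h4 : ∀ A : Matrix (Fin 4) (Fin 4) F, P * (Q * A * P) * Q = A := by
        intro A
        calc P * (Q * A * P) * Q = (P * Q) * A * (P * Q) := by simp only [Matrix.mul_assoc]
          _ = A := by rw [hPQ, one_mul, mul_one]
      rw [← h4 (((h : Matrix.SpecialLinearGroup (Fin 4) (ZMod p)) : Matrix (Fin 4) (Fin 4) (ZMod p)).map φ), h1, h4]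
    apply Subtype.ext
    apply Subtype.ext
    ext i k
    exact hφi (congrFun (congrFun h2.symm i) k)
  · intro n hn
    rw [Subgroup.mem_center_iff]
    intro x
    apply Subtype.ext
    apply Subtype.ext
    have h1 : ((Φ n : Matrix.SpecialLinearGroup (Fin 4) F) : Matrix (Fin 4) (Fin 4) F) = -1 := by
      rw [hΦ, hn]
      have h2 : (-1 : Matrix (Fin 4) (Fin 4) (ZMod p)).map φ = -1 := by
        rw [← RingHom.mapMatrix_apply, map_neg, map_one]
      rw [h2, mul_neg, mul_one, neg_mul, hQP]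
    change ((x : Matrix.SpecialLinearGroup (Fin 4) F) : Matrix (Fin 4) (Fin 4) F) *
      ((Φ n : Matrix.SpecialLinearGroup (Fin 4) F) : Matrix (Fin 4) (Fin 4) F) =
      ((Φ n : Matrix.SpecialLinearGroup (Fin 4) F) : Matrix (Fin 4) (Fin 4) F) *
      ((x : Matrix.SpecialLinearGroup (Fin 4) F) : Matrix (Fin 4) (Fin 4) F)
    rw [h1, mul_neg, neg_mul, mul_one, one_mul]

end Cfsg.Agent.H362.CfgUni
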