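import Cfsg.Agent.H362.CfgUni
import Cfsg.Agent.H363.L4.CoverNe

/-!
# Covers of `PSU_4(q)`, `q` a power of 2 or 3, by elementary abelian groups of the characteristic (helper362)
-/

set_option autoImplicit false
set_option maxRecDepth 10000

namespace Cfsg.Agent.H362.SpecU4

open Matrix Cfsg Cfsg.Agent.ClassicalGeometry Cfsg.Agent.H749 CfgLin CfgUni Subgroup

/-- characteristic 2: the form -/
def h2 : Matrix (Fin 4) (Fin 4) (ZMod 2) := !![0,1,0,0; 1,0,0,0; 0,0,0,1; 0,0,1,0]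

/-- characteristic 3: the form -/
def h3 : Matrix (Fin 4) (Fin 4) (ZMod 3) := !![0,0,2,0; 0,0,0,2; 1,0,0,0; 0,1,0,0]

def k3 : Matrix (Fin 4) (Fin 4) (ZMod 3) := !![0,0,1,0; 0,0,0,1; 2,0,0,0; 0,2,0,0]

theorem a2_mem : a2 ∈ isoSub h2 := by rw [mem_isoSub]; decide
theorem b2_mem : b2 ∈ isoSub h2 := by rw [mem_isoSub]; decide
theorem c2_mem : c2 ∈ isoSub h2 := by rw [mem_isoSub]; decide
theorem a3_mem : a3 ∈ isoSub h3 := by rw [mem_isoSub]; decide
theorem b3_mem : b3 ∈ isoSub h3 := by rw [mem_isoSub]; decide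
theorem c3_mem : c3 ∈ isoSub h3 := by rw [mem_isoSub]; decide
theorem t3_mem : t3 ∈ isoSub h3 := by rw [mem_isoSub]; decide
theorem w3_mem : w3 ∈ isoSub h3 := by rw [mem_isoSub]; decide
theorem n3_mem : n3 ∈ isoSub h3 := by rw [mem_isoSub]; decide

theorem h2_sq : h2 * h2 = 1 := by decide
theorem h2_tr : h2ᵀ = (1 : ZMod 2) • h2 := by decide
theorem h3_k3 : h3 * k3 = 1 := by decide
theorem h3_tr : h3ᵀ = (-1 : ZMod 3) • h3 := by decide
theorem n3_eq : (n3 : Matrix (Fin 4) (Fin 4) (ZMod 3)) = -1 := by decide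

variable {F : Type*} [Field F] [Fintype F] {q : ℕ}

/-- **Order 8 in covers of `PSU_4(2 ^ m)`.** -/
theorem psu_eight [CharP F 2] (hF : Fintype.card F = q ^ 2) {X : Type*} [Group X] [Finite X] (V : Subgroup X)
    [V.Normal] [IsSimpleGroup (X ⧸ V)] (hVc : IsMulCommutative V) (hVp : ∀ v ∈ V, v ^ 2 = 1)
    (hcen : ¬ V ≤ center X) (e : X ⧸ V ≃* PSU 4 F q) : ∃ x : X, orderOf x = 8 := by
  have : Fact (Nat.Prime 2) := ⟨Nat.prime_two⟩
  obtain ⟨Φ, hΦ, -⟩ := exists_hom (F := F) (p := 2) hF h2 h2 h2_sq (δ := 1) one_ne_zero (ε := 1) h2_tr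
    (by rw [map_one, one_pow, one_mul])
  let f : isoSub h2 →* X ⧸ V := e.symm.toMonoidHom.comp ((QuotientGroup.mk' (center (SU 4 F q))).comp Φ)
  have hf : ∀ g, f g = 1 → ∀ h, h * g = g * h := by
    intro g hg h
    have h1 : (Φ g : PSU 4 F q) = 1 := e.symm.injective (by rw [map_one]; exact hg)
    have h2 := mem_center_iff.1 ((QuotientGroup.eq_one_iff _).1 h1) (Φ h)
    rw [← map_mul, ← map_mul] at h2
    exact hΦ h2
  refine SpecCfg.exists_eight V hVc hVp (a := f ⟨a2, a2_mem⟩) (b := f ⟨b2, b2_mem⟩) (c := f ⟨c2, c2_mem⟩)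
      (by rw [← map_mul, ← map_mul]; exact congrArg f (Subtype.ext comm2))
      (by rw [← map_pow, ← map_one f]; exact congrArg f (Subtype.ext a2_pow))
      (by rw [← map_pow, ← map_one f]; exact congrArg f (Subtype.ext b2_pow))
      (by rw [← map_pow, ← map_one f]; exact congrArg f (Subtype.ext c2_pow))
      (by rw [← map_mul, ← map_mul]; exact congrArg f (Subtype.ext ca2))
      (by rw [eq_inv_mul_iff_mul_eq, ← map_mul, ← map_mul]; exact congrArg f (Subtype.ext cb2)) ?_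
  obtain ⟨g, hg⟩ := QuotientGroup.mk_surjective (f ⟨a2, a2_mem⟩)
  refine ⟨g, hg, H363.L4.exists_not_comm V hVc hcen g fun h => ?_⟩
  have h1 := hf ⟨a2, a2_mem⟩ (by rw [← hg]; exact (QuotientGroup.eq_one_iff g).2 h) ⟨c2, c2_mem⟩
  have h2 : c2 * a2 = a2 * c2 := congrArg Subtype.val h1
  have h3 := congrArg Subtype.val h2
  revert h3
  decide

theorem exists_delta (hF : Fintype.card F = q ^ 2) : ∃ δ : F, δ ≠ 0 ∧ δ ^ q = -δ := by
  obtain ⟨σ, hσ⟩ := GUBasic.exists_powHom hF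
  by_contra hcon
  push Not at hcon
  apply sigma_ne hF hσ
  ext x
  change σ x = x
  by_contra hx
  apply hcon (x - σ x) (sub_ne_zero.2 (Ne.symm hx))
  rw [← hσ, map_sub, sigma_sigma hF hσ]
  ring

/-- **Order 18 in covers of `PSU_4(3 ^ m)`.** -/
theorem psu_eighteen [CharP F 3] (hF : Fintype.card F = q ^ 2) {X : Type*} [Group X] [Finite X] (V : Subgroup X)
    [V.Normal] [IsSimpleGroup (X ⧸ V)] (hVc : IsMulCommutative V) (hVp : ∀ v ∈ V, v ^ 3 = 1)
    (hcen : ¬ V ≤ center X) (e : X ⧸ V ≃* PSU 4 F q) : ∃ x : X, orderOf x = 18 := by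
  have : Fact (Nat.Prime 3) := ⟨Nat.prime_three⟩
  obtain ⟨δ, hδ, hδq⟩ := exists_delta (F := F) hF
  obtain ⟨Φ, hΦ, hn⟩ := exists_hom (F := F) (p := 3) hF h3 k3 h3_k3 (δ := δ) hδ (ε := -1) h3_tr
    (by rw [map_neg, map_one, hδq, mul_neg, mul_one])
  let f : isoSub h3 →* X ⧸ V := e.symm.toMonoidHom.comp ((QuotientGroup.mk' (center (SU 4 F q))).comp Φ)
  have hf : ∀ g, f g = 1 → ∀ h, h * g = g * h := by
    intro g hg h
    have h1 : (Φ g : PSU 4 F q) = 1 := e.symm.injective (by rw [map_one]; exact hg)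
    have h2 := mem_center_iff.1 ((QuotientGroup.eq_one_iff _).1 h1) (Φ h)
    rw [← map_mul, ← map_mul] at h2
    exact hΦ h2
  have hn' : f ⟨n3, n3_mem⟩ = 1 := by
    have h1 : (Φ ⟨n3, n3_mem⟩ : PSU 4 F q) = 1 := (QuotientGroup.eq_one_iff _).2 (hn ⟨n3, n3_mem⟩ n3_eq)
    change e.symm (Φ ⟨n3, n3_mem⟩ : PSU 4 F q) = 1
    rw [h1, map_one]
  refine SpecCfg.exists_eighteen V hVc hVp (a := f ⟨a3, a3_mem⟩) (b := f ⟨b3, b3_mem⟩) (c := f ⟨c3, c3_mem⟩)
      (t := f ⟨t3, t3_mem⟩) (w := f ⟨w3, w3_mem⟩)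
      (by
        have h1 : f ⟨a3, a3_mem⟩ * f ⟨b3, b3_mem⟩ = f ⟨n3, n3_mem⟩ * (f ⟨b3, b3_mem⟩ * f ⟨a3, a3_mem⟩) := by
          rw [← map_mul, ← map_mul, ← map_mul]
          exact congrArg f (Subtype.ext ab3)
        rw [h1, hn', one_mul])
      (by rw [← map_pow, ← hn']; exact congrArg f (Subtype.ext a3_pow))
      (by rw [← map_pow, ← hn']; exact congrArg f (Subtype.ext b3_pow))
      (by rw [← map_pow, ← map_one f]; exact congrArg f (Subtype.ext c3_pow))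
      (by rw [← map_mul, ← map_mul]; exact congrArg f (Subtype.ext ca3))
      (by rw [← map_mul, ← map_mul, ← map_mul]; exact congrArg f (Subtype.ext cb3))
      (by rw [← map_pow, ← hn']; exact congrArg f (Subtype.ext t3_pow))
      (by rw [← map_mul, ← map_mul]; exact congrArg f (Subtype.ext at3))
      (by rw [← map_mul, ← map_mul]; exact congrArg f (Subtype.ext bt3))
      (by rw [← map_mul, ← map_mul]; exact congrArg f (Subtype.ext ct3))
      (by rw [← map_mul, ← map_mul]; exact congrArg f (Subtype.ext wa3))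
      (by rw [← map_mul, ← map_mul]; exact congrArg f (Subtype.ext wt3)) ?_
  obtain ⟨g, hg⟩ := QuotientGroup.mk_surjective (f (⟨a3, a3_mem⟩ * ⟨t3, t3_mem⟩))
  refine ⟨g, by rw [hg, map_mul], H363.L4.exists_not_comm V hVc hcen g fun h => ?_⟩
  have h1 := hf (⟨a3, a3_mem⟩ * ⟨t3, t3_mem⟩) (by rw [← hg]; exact (QuotientGroup.eq_one_iff g).2 h) ⟨c3, c3_mem⟩
  have h2 : c3 * (a3 * t3) = a3 * t3 * c3 := congrArg Subtype.val h1
  have h3 := congrArg Subtype.val h2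
  revert h3
  decide

end Cfsg.Agent.H362.SpecU4
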