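import Cfsg.Agent.H362.CoverU
import Cfsg.Agent.H402.Rec.Spec

/-!
# Covers of `PSU_4(q)`, `q > 2` a power of 2 or 3, by elementary abelian groups (helper362)

`cover_U`: all primes `w`.
-/

set_option autoImplicit false
set_option linter.unusedSectionVars false

namespace Cfsg.Agent.H362.CoverU

open Cfsg Cfsg.Agent.H403 NumTop Subgroup Cfsg.Agent.H363.L4 Cfsg.Agent.H402.Rec

variable {F : Type*} [Field F] [Fintype F] {q : ℕ}

/-- the central case in the characteristic -/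
theorem central_p {p : ℕ} (hp : p.Prime) [CharP F p] (hF : Fintype.card F = q ^ 2) (hq2 : 2 < q) {X : Type*} [Group X]
    [Finite X] (V : Subgroup X) [V.Normal] (hVp : ∀ v ∈ V, v ^ p = 1) (hV : V ≠ ⊥) (hcen : V ≤ center X)
    (e : X ⧸ V ≃* PSU 4 F q) (hω : ∀ x : X, ∃ y : PSU 4 F q, orderOf y = orderOf x) : False := by
  obtain ⟨v, hv, hv1⟩ : ∃ v ∈ V, v ≠ 1 := by
    by_contra hcon
    push Not at hcon
    exact hV ((eq_bot_iff_forall V).2 hcon)
  have hpf := Fact.mk hp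
  have hvo : orderOf v = p := orderOf_eq_prime (hVp v hv) hv1
  have hq : 2 ≤ q := by omega
  obtain ⟨s, hs, -, hso⟩ := exists_prime (e := false) (i := 4) hq (by norm_num) (by
    rintro (⟨h, _⟩ | ⟨_, h, _⟩) <;> simp at h)
  have hsd : s ∣ Nat.card X := by
    obtain ⟨g, hg⟩ := exists_r hF (Or.inr rfl) hs hso
    have h1 : s ∣ Nat.card (X ⧸ V) := by
      rw [Nat.card_congr e.toEquiv, ← hg]
      exact _root_.orderOf_dvd_natCard g
    exact h1.trans (card_quotient_dvd_card V)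
  have hsp : p ≠ s := by
    rintro rfl
    obtain ⟨g, hg⟩ := exists_r (F := F) hF (Or.inr rfl) hs hso
    exact not_p_of_r4 hp hF hs hso g (by rw [hg]) (by rw [hg])
  obtain ⟨x, hx⟩ := exists_mul_of_central (hcen hv) hvo hs ((Nat.coprime_primes hp hs).2 hsp) hsd
  obtain ⟨y, hy⟩ := hω x
  exact not_p_of_r4 hp hF hs hso y (by rw [hy, hx]; exact dvd_mul_left _ _) (by rw [hy, hx]; exact dvd_mul_right _ _)

theorem not_eight [CharP F 2] (hF : Fintype.card F = q ^ 2) (hq2 : 2 < q) (y : PSU 4 F q) : orderOf y ≠ 8 := by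
  intro h8
  obtain ⟨k, hk1, hk⟩ := card_pow Nat.prime_two hF
  have hk2 : 2 ≤ k := by
    by_contra hcon
    obtain rfl : k = 1 := by omega
    omega
  subst hk
  have hf := fact2 (L := PSU 4 F (2 ^ k)) (F := F) (e := false) (k := k) ⟨MulEquiv.refl _⟩ (by simpa using hF) hk2
  have heven : 2 ^ k % 2 = 0 := by
    obtain ⟨j, rfl⟩ := Nat.exists_eq_add_of_le hk1
    rw [pow_add]; omega
  have h3 := M3_odd false (q := 2 ^ k) (by omega) heven
  have h4 := M4_odd false (q := 2 ^ k) (by omega) heven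
  have hodd : ((2 ^ k) ^ 2) % 2 = 0 := by rw [Nat.pow_mod, heven]
  have hpos : 0 < (2 ^ k) ^ 2 := by positivity
  rcases hf.spec y with h | h | h | h <;> rw [h8] at h
  · have : 2 ∣ M3 false (2 ^ k) := (by norm_num : 2 ∣ 8).trans h
    omega
  · have : 2 ∣ M4 false (2 ^ k) := (by norm_num : 2 ∣ 8).trans h
    omega
  · omega
  · have : M1 false (2 ^ k) = 2 ^ k + 1 := rfl
    rw [this] at h
    omega

theorem not_eighteen [CharP F 3] (hF : Fintype.card F = q ^ 2) (y : PSU 4 F q) : orderOf y ≠ 18 := by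
  intro h8
  obtain ⟨k, hk1, hk⟩ := card_pow Nat.prime_three hF
  have h30 : q % 3 = 0 := by rw [hk]; exact (q_mod k hk1).2.1
  have hq := ClassicalGeometry.GUBasic.two_le hF
  have hsq : (q ^ 2) % 3 = 0 := by rw [Nat.pow_mod, h30]
  have hcu : (q ^ 3) % 3 = 0 := by rw [Nat.pow_mod, h30]
  have hpos : 0 < q ^ 2 := by positivity
  have hL : IsL (PSU 4 F q) false 4 q F := ⟨MulEquiv.refl _⟩
  rcases spec_three (hL.lin (E := AlgebraicClosure F) (by simpa using hF) (by norm_num)) (by simpa using hF) y with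
    h | h | h | h
  · rw [h8] at h
    have h1 : 3 ∣ M3 false q := ((by norm_num : 3 ∣ 18).trans (dvd_mul_right _ _)).trans h
    have h4 : M3 false q = q ^ 3 + 1 := rfl
    rw [h4] at h1
    omega
  · rw [h8] at h
    have h1 : 3 ∣ M4 false q := ((by norm_num : 3 ∣ 18).trans (dvd_mul_right _ _)).trans h
    have h4 : M4 false q = (q ^ 2 + 1) * (q - 1) := rfl
    rw [h4] at h1
    rcases (Nat.Prime.dvd_mul Nat.prime_three).1 h1 with h2 | h2 <;> omega
  · rw [h8] at h
    omega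
  · omega

/-- **Covers in characteristic 2.** -/
theorem cover_two [CharP F 2] (hF : Fintype.card F = q ^ 2) (hq2 : 2 < q) {X : Type*} [Group X] [Finite X]
    (V : Subgroup X) [V.Normal] [IsSimpleGroup (X ⧸ V)] (hVc : IsMulCommutative V) (hVp : ∀ v ∈ V, v ^ 2 = 1)
    (hV : V ≠ ⊥) (e : X ⧸ V ≃* PSU 4 F q) (hω : ∀ x : X, ∃ y : PSU 4 F q, orderOf y = orderOf x) : False := by
  by_cases hcen : V ≤ center X
  · exact central_p Nat.prime_two hF hq2 V hVp hV hcen e hω
  · obtain ⟨x, hx⟩ := SpecU4.psu_eight hF V hVc hVp hcen e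
    obtain ⟨y, hy⟩ := hω x
    exact not_eight hF hq2 y (by rw [hy, hx])

/-- **Covers in characteristic 3.** -/
theorem cover_three [CharP F 3] (hF : Fintype.card F = q ^ 2) {X : Type*} [Group X] [Finite X]
    (V : Subgroup X) [V.Normal] [IsSimpleGroup (X ⧸ V)] (hVc : IsMulCommutative V) (hVp : ∀ v ∈ V, v ^ 3 = 1)
    (hV : V ≠ ⊥) (e : X ⧸ V ≃* PSU 4 F q) (hω : ∀ x : X, ∃ y : PSU 4 F q, orderOf y = orderOf x) : False := by
  by_cases hcen : V ≤ center X
  · refine central_p Nat.prime_three hF ?_ V hVp hV hcen e hω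
    obtain ⟨k, hk1, hk⟩ := card_pow Nat.prime_three hF
    rw [hk]
    exact lt_of_lt_of_le (by norm_num : 2 < 3 ^ 1) (Nat.pow_le_pow_right (by norm_num) hk1)
  · obtain ⟨x, hx⟩ := SpecU4.psu_eighteen hF V hVc hVp hcen e
    obtain ⟨y, hy⟩ := hω x
    exact not_eighteen hF y (by rw [hy, hx])

end Cfsg.Agent.H362.CoverU
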