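import Mathlib
import Cfsg.Agent.H363.Frat
import Cfsg.Agent.H431.Lucido
import Cfsg.Agent.SmallSimple.SylowEight
import Cfsg.Agent.SmallSimple.EvenOrder
import Cfsg.Agent.SmallSimple.OrderEight
import Cfsg.Agent.S0201

/-!
# Isolated sets of primes and Sylow `2`-subgroups of order at most eight
-/

set_option autoImplicit false
set_option linter.unusedSectionVars false

namespace Cfsg.Agent.H362.IsoGroup

open Subgroup
open Cfsg.Agent.H363.Frat

/-- The primes dividing `s` are not joined to the other primes. -/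
def Isol (s : ℕ) (G : Type*) [Group G] : Prop :=
  ∀ (x : G) (p p' : ℕ), p.Prime → p'.Prime → p ∣ s → ¬ p' ∣ s → p ∣ orderOf x → ¬ p' ∣ orderOf x

section

variable {G : Type*} [Group G] {s : ℕ}

theorem Isol.nonAdj (h : Isol s G) {p p' : ℕ} (hp : p.Prime) (hp' : p'.Prime) (hs : p ∣ s) (hs' : ¬ p' ∣ s) :
    NonAdj G p p' := by
  intro g hg
  exact h g p p' hp hp' hs hs' (hg ▸ Dvd.intro _ rfl) (hg ▸ Dvd.intro_left _ rfl)

theorem Isol.of_injective (h : Isol s G) {H : Type*} [Group H] (f : H →* G) (hf : Function.Injective f) :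
    Isol s H := by
  intro x p p' hp hp' hs hs' h1 h2
  rw [← orderOf_injective f hf x] at h1 h2
  exact h (f x) p p' hp hp' hs hs' h1 h2

theorem Isol.subgroup (h : Isol s G) (H : Subgroup G) : Isol s H :=
  h.of_injective H.subtype H.subtype_injective

theorem Isol.of_surjective (h : Isol s G) {H : Type*} [Group H] (f : G →* H)
    (hf : Function.Surjective f) : Isol s H := by
  intro y p p' hp hp' hs hs' h1 h2
  obtain ⟨x, rfl⟩ := hf y
  exact h x p p' hp hp' hs hs' (h1.trans (orderOf_map_dvd f x)) (h2.trans (orderOf_map_dvd f x))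

theorem Isol.quotient (h : Isol s G) (N : Subgroup G) [N.Normal] : Isol s (G ⧸ N) :=
  h.of_surjective (QuotientGroup.mk' N) (QuotientGroup.mk'_surjective N)

end

/-- A four-group cannot act fixed point freely on a group of odd prime power order. -/
theorem four_free {G : Type*} [Group G] [Finite G] {p : ℕ} (hp : p.Prime) (hp2 : p ≠ 2)
    (hna : NonAdj G 2 p) {a b : G} (ha : orderOf a = 2) (hb : orderOf b = 2) (hab : a ≠ b)
    (hc : Commute a b) {S : Subgroup G} (hS : IsPGroup p S) (hS1 : S ≠ ⊥)
    (haS : a ∈ normalizer (S : Set G)) (hbS : b ∈ normalizer (S : Set G)) : False := by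
  have hpo : ∀ x ∈ S, ∃ k, orderOf x = p ^ k := by
    intro x hx
    have : Fact p.Prime := ⟨hp⟩
    obtain ⟨k, hk⟩ := (IsPGroup.iff_orderOf.1 hS) ⟨x, hx⟩
    exact ⟨k, by rw [← hk, Subgroup.orderOf_mk]⟩
  -- an involution of the normaliser inverts `S`
  have key : ∀ c : G, orderOf c = 2 → c ∈ normalizer (S : Set G) → ∀ x ∈ S, c * x * c⁻¹ = x⁻¹ := by
    intro c hc2 hcN x hx
    have hcc : c * c = 1 := by rw [← pow_two, ← hc2, pow_orderOf_eq_one]
    have hmem : ∀ y ∈ S, c * y * c⁻¹ ∈ S := fun y hy => (mem_normalizer_iff.1 hcN y).1 hy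
    let φ : S →* S :=
      { toFun := fun y => ⟨c * y * c⁻¹, hmem y y.2⟩
        map_one' := by simp
        map_mul' := by intro y z; apply Subtype.ext; simp [mul_assoc] }
    have hfree : MonoidHom.FixedPointFree φ := by
      intro y hy
      have h1 : c * (y : G) * c⁻¹ = y := congrArg Subtype.val hy
      have h2 : Commute c (y : G) := by
        rw [mul_inv_eq_iff_eq_mul] at h1
        exact h1
      have h3 := eq_one_of_commute hp Nat.prime_two hp2 hna.symm (hpo y y.2) ⟨1, by rw [hc2, pow_one]⟩
        h2.symm (by rintro rfl; rw [orderOf_one] at hc2; omega)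
      exact Subtype.ext h3
    have hinv : Function.Involutive φ := by
      intro y
      apply Subtype.ext
      show c * (c * (y : G) * c⁻¹) * c⁻¹ = y
      calc c * (c * (y : G) * c⁻¹) * c⁻¹ = (c * c) * y * (c * c)⁻¹ := by group
        _ = y := by rw [hcc]; group
    have h1 := hfree.coe_eq_inv_of_involutive hinv
    have h2 := congrFun h1 ⟨x, hx⟩
    exact congrArg Subtype.val h2
  obtain ⟨⟨x, hx⟩, hx1'⟩ := (Subgroup.ne_bot_iff_exists_ne_one).1 hS1
  have hx1 : x ≠ 1 := fun h => hx1' (Subtype.ext h)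
  have h1 := key a ha haS x hx
  have h2 := key b hb hbS _ (S.inv_mem hx)
  have h3 : Commute (b * a) x := by
    have h4 : (b * a) * x * (b * a)⁻¹ = x := by
      calc (b * a) * x * (b * a)⁻¹ = b * (a * x * a⁻¹) * b⁻¹ := by group
        _ = b * x⁻¹ * b⁻¹ := by rw [h1]
        _ = (x⁻¹)⁻¹ := h2
        _ = x := inv_inv x
    rw [mul_inv_eq_iff_eq_mul] at h4
    exact h4
  have haa : a * a = 1 := by rw [← pow_two, ← ha, pow_orderOf_eq_one]
  have hbb : b * b = 1 := by rw [← pow_two, ← hb, pow_orderOf_eq_one]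
  have h5 : (b * a) ^ 2 = 1 := by
    rw [pow_two]
    calc b * a * (b * a) = b * (a * b) * a := by group
      _ = b * (b * a) * a := by rw [hc.eq]
      _ = (b * b) * (a * a) := by group
      _ = 1 := by rw [haa, hbb, one_mul]
  have h6 : b * a ≠ 1 := by
    intro h
    apply hab
    have : b⁻¹ = b := by rw [inv_eq_iff_mul_eq_one, hbb]
    calc a = b⁻¹ * (b * a) := by group
      _ = b := by rw [h, mul_one, this]
  have h7 : orderOf (b * a) = 2 := by
    have : Fact (Nat.Prime 2) := ⟨Nat.prime_two⟩
    exact orderOf_eq_prime h5 h6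
  exact hx1 (eq_one_of_commute hp Nat.prime_two hp2 hna.symm (hpo x hx) ⟨1, by rw [h7, pow_one]⟩ h3.symm h6)

/-- Lifting four-groups through a quotient by a normal subgroup of odd order. -/
theorem lift_four {N H : Type*} [Group N] [Finite N] [Group H] (f : N →* H) (hf : Function.Surjective f)
    (hk : Odd (Nat.card f.ker)) {a b : H} (ha : orderOf a = 2) (hb : orderOf b = 2) (hab : a ≠ b)
    (hc : Commute a b) :
    ∃ a' b' : N, orderOf a' = 2 ∧ orderOf b' = 2 ∧ a' ≠ b' ∧ Commute a' b' := by
  classical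
  have : Fact (Nat.Prime 2) := ⟨Nat.prime_two⟩
  have hfinH : Finite H := Finite.of_surjective f hf
  have haa : a * a = 1 := by rw [← pow_two, ← ha, pow_orderOf_eq_one]
  have hbb : b * b = 1 := by rw [← pow_two, ← hb, pow_orderOf_eq_one]
  -- the four-group
  have hcomm : ∀ x ∈ ({a, b} : Set H), ∀ y ∈ ({a, b} : Set H), x * y = y * x := by
    intro x hx y hy
    rcases hx with rfl | rfl <;> rcases hy with rfl | rfl
    · rfl
    · exact hc
    · exact hc.symm
    · rfl
  set V : Subgroup H := closure {a, b} with hV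
  have hVc : ∀ x ∈ V, ∀ y ∈ V, x * y = y * x := by
    intro x hx y hy
    have := Subgroup.isMulCommutative_closure hcomm
    exact congrArg Subtype.val (this.is_comm.comm (⟨x, hx⟩ : V) ⟨y, hy⟩)
  have hVsq : ∀ x ∈ V, x * x = 1 := by
    intro x hx
    induction hx using Subgroup.closure_induction with
    | mem x hx => rcases hx with rfl | rfl <;> assumption
    | one => exact mul_one 1
    | mul x y hx hy h1 h2 =>
      calc x * y * (x * y) = x * (y * x) * y := by group
        _ = x * (x * y) * y := by rw [hVc y hy x hx]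
        _ = (x * x) * (y * y) := by group
        _ = 1 := by rw [h1, h2, one_mul]
    | inv x hx h1 =>
      rw [← mul_inv_rev, h1, inv_one]
  have hV2 : IsPGroup 2 V := by
    intro x
    refine ⟨1, Subtype.ext ?_⟩
    rw [pow_one, pow_two]
    exact hVsq x x.2
  let g := f.subgroupComap V
  have hg : Function.Surjective g := MonoidHom.subgroupComap_surjective_of_surjective f V hf
  let T : Sylow 2 (V.comap f) := default
  have hT : (T : Subgroup (V.comap f)).map g = ⊤ := by
    rw [← Sylow.coe_mapSurjective hg]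
    apply le_antisymm le_top
    have h1 := (T.mapSurjective hg).is_maximal' (Q := (⊤ : Subgroup V)) (hV2.to_subgroup ⊤) le_top
    exact h1.le
  have hlift : ∀ v ∈ V, ∃ x : V.comap f, x ∈ (T : Subgroup (V.comap f)) ∧ f x = v := by
    intro v hv
    have h1 : (⟨v, hv⟩ : V) ∈ (T : Subgroup (V.comap f)).map g := by rw [hT]; trivial
    obtain ⟨x, hx, hxv⟩ := h1
    exact ⟨x, hx, congrArg Subtype.val hxv⟩
  have hker : ∀ x : V.comap f, x ∈ (T : Subgroup (V.comap f)) → f x = 1 → x = 1 := by
    intro x hx hx1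
    obtain ⟨k, hk2⟩ := (IsPGroup.iff_orderOf.1 T.isPGroup') ⟨x, hx⟩
    rw [Subgroup.orderOf_mk, ← Subgroup.orderOf_coe] at hk2
    have h1 : orderOf (x : N) ∣ Nat.card f.ker := by
      have := orderOf_dvd_natCard (⟨(x : N), MonoidHom.mem_ker.2 hx1⟩ : f.ker)
      rwa [Subgroup.orderOf_mk] at this
    have h2 : k = 0 := by
      by_contra h0
      have h3 : 2 ∣ orderOf (x : N) := by rw [hk2]; exact dvd_pow_self 2 h0
      have h4 := h3.trans h1
      rw [← even_iff_two_dvd] at h4
      exact (Nat.not_even_iff_odd.2 hk) h4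
    rw [h2, pow_zero, orderOf_eq_one_iff] at hk2
    exact Subtype.ext hk2
  have haV : a ∈ V := subset_closure (by simp)
  have hbV : b ∈ V := subset_closure (by simp)
  obtain ⟨x, hx, hxa⟩ := hlift a haV
  obtain ⟨y, hy, hyb⟩ := hlift b hbV
  have hx2 : x * x = 1 := hker _ (mul_mem hx hx) (by
    rw [Subgroup.coe_mul, map_mul, hxa, haa])
  have hy2 : y * y = 1 := hker _ (mul_mem hy hy) (by
    rw [Subgroup.coe_mul, map_mul, hyb, hbb])
  have hxy : x * y * (y * x)⁻¹ = 1 := hker _ (mul_mem (mul_mem hx hy) (inv_mem (mul_mem hy hx))) (by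
    rw [Subgroup.coe_mul, Subgroup.coe_inv, map_mul, map_inv, Subgroup.coe_mul, Subgroup.coe_mul, map_mul, map_mul,
      hxa, hyb, hc.eq, mul_inv_cancel])
  have hne1 : ∀ z : V.comap f, ∀ c : H, orderOf c = 2 → f z = c → z ≠ 1 := by
    rintro z c hc2 hzc rfl
    rw [Subgroup.coe_one, map_one] at hzc
    rw [← hzc, orderOf_one] at hc2
    omega
  refine ⟨x, y, ?_, ?_, ?_, ?_⟩
  · rw [Subgroup.orderOf_coe]
    exact orderOf_eq_prime (by rw [pow_two, hx2]) (hne1 x a ha hxa)
  · rw [Subgroup.orderOf_coe]
    exact orderOf_eq_prime (by rw [pow_two, hy2]) (hne1 y b hb hyb)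
  · intro h
    apply hab
    rw [← hxa, ← hyb, h]
  · have h1 : x * y = y * x := mul_inv_eq_one.1 hxy
    exact congrArg Subtype.val h1

/-- A non-abelian simple group with Sylow `2`-subgroups of order at most eight contains a four-group. -/
theorem exists_four {G : Type*} [Group G] [Finite G] [IsSimpleGroup G] (hG : ¬ IsMulCommutative G)
    (h4 : 4 ∣ Nat.card G) (h16 : ¬ 16 ∣ Nat.card G) :
    ∃ a b : G, orderOf a = 2 ∧ orderOf b = 2 ∧ a ≠ b ∧ Commute a b := by
  classical
  have : Fact (Nat.Prime 2) := ⟨Nat.prime_two⟩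
  have h2 : 2 ∣ Nat.card G := (by norm_num : 2 ∣ 4).trans h4
  obtain ⟨T⟩ : Nonempty (Sylow 2 G) := inferInstance
  -- elementary abelian groups of order at least three
  have elem : (∀ x ∈ (T : Subgroup G), x * x = 1) → 3 ≤ Nat.card (T : Subgroup G) →
      ∃ a b : G, orderOf a = 2 ∧ orderOf b = 2 ∧ a ≠ b ∧ Commute a b := by
    intro hsq h3
    have := Fintype.ofFinite T
    have h3' : 2 < Fintype.card T := by rw [← Nat.card_eq_fintype_card]; exact h3
    obtain ⟨x, y, z, hxy, hxz, hyz⟩ := Fintype.two_lt_card_iff.1 h3'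
    have hord : ∀ x : T, x ≠ 1 → orderOf (x : G) = 2 := by
      intro x hx
      exact orderOf_eq_prime (by rw [pow_two]; exact hsq x x.2) (fun h => hx (Subtype.ext h))
    have hcm : ∀ x y : T, Commute (x : G) (y : G) := by
      intro x y
      have h1 := hsq _ x.2
      have h2 := hsq _ y.2
      have h3 := hsq _ (mul_mem x.2 y.2)
      have i1 : (x : G)⁻¹ = x := inv_eq_of_mul_eq_one_right h1
      have i2 : (y : G)⁻¹ = y := inv_eq_of_mul_eq_one_right h2
      have i3 : ((x : G) * y)⁻¹ = x * y := inv_eq_of_mul_eq_one_right h3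
      rw [mul_inv_rev, i1, i2] at i3
      exact i3.symm
    by_cases hx1 : x = 1
    · have hy1 : y ≠ 1 := fun h => hxy (by rw [hx1, h])
      have hz1 : z ≠ 1 := fun h => hxz (by rw [hx1, h])
      exact ⟨y, z, hord y hy1, hord z hz1, fun h => hyz (Subtype.ext h), hcm y z⟩
    · by_cases hy1 : y = 1
      · have hz1 : z ≠ 1 := fun h => hyz (by rw [hy1, h])
        exact ⟨x, z, hord x hx1, hord z hz1, fun h => hxz (Subtype.ext h), hcm x z⟩
      · exact ⟨x, y, hord x hx1, hord y hy1, fun h => hxy (Subtype.ext h), hcm x y⟩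
  by_cases h8 : 8 ∣ Nat.card G
  · have hT := SmallSimple.SylowEight.card_sylow_eight h8 h16 T
    by_cases hcomm : IsMulCommutative T
    · have hcomm' : ∀ x ∈ (T : Subgroup G), ∀ y ∈ (T : Subgroup G), x * y = y * x :=
        fun x hx y hy => congrArg Subtype.val (hcomm.is_comm.comm (⟨x, hx⟩ : T) ⟨y, hy⟩)
      apply elem _ (by rw [hT]; norm_num)
      apply SmallSimple.SylowEight.mul_self_eq_one (T : Subgroup G) hT
      intro r hr hr4
      have h1 : r ^ 2 = 1 := by
        apply SmallSimple.SylowEight.eq_one_of_forall_normalizer hG T hcomm' (r ^ 2) (pow_mem hr 2)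
        intro n hn
        have h2 : n * r * n⁻¹ ∈ (T : Subgroup G) := (mem_normalizer_iff.1 hn r).1 hr
        have h3 : orderOf (n * r * n⁻¹) = 4 := by
          rw [← hr4]
          exact MulEquiv.orderOf_eq (MulAut.conj n) r
        have h5 := SmallSimple.SylowEight.sq_eq_sq (T : Subgroup G) hT hr h2 hr4 h3
        have h6 : n * r ^ 2 * n⁻¹ = r ^ 2 := by
          rw [← conj_pow]
          exact h5.symm
        exact mul_inv_eq_iff_eq_mul.1 h6
      have := orderOf_dvd_of_pow_eq_one h1
      rw [hr4] at this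
      revert this
      decide
    · rcases SmallSimple.OrderEight.dihedral_or_quaternion_of_card_eight hT hcomm with ⟨⟨e⟩⟩ | ⟨⟨e⟩⟩
      · have o1 : orderOf (DihedralGroup.sr 0 : DihedralGroup 4) = 2 := DihedralGroup.orderOf_sr 0
        have o2 : orderOf (DihedralGroup.r 2 : DihedralGroup 4) = 2 := by
          apply orderOf_eq_prime <;> decide
        refine ⟨e.symm (DihedralGroup.sr 0), e.symm (DihedralGroup.r 2), ?_, ?_, ?_, ?_⟩
        · rw [Subgroup.orderOf_coe, MulEquiv.orderOf_eq, o1]
        · rw [Subgroup.orderOf_coe, MulEquiv.orderOf_eq, o2]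
        · intro h
          have h1 := e.symm.injective (Subtype.ext h)
          revert h1
          decide
        · have h1 : (DihedralGroup.sr 0 : DihedralGroup 4) * DihedralGroup.r 2 =
            DihedralGroup.r 2 * DihedralGroup.sr 0 := by decide
          have h2 := congrArg e.symm h1
          rw [map_mul, map_mul] at h2
          exact congrArg Subtype.val h2
      · exfalso
        have hO : ∀ N : Subgroup G, N.Normal → Odd (Nat.card N) → N = ⊥ := by
          intro N hN hodd
          rcases hN.eq_bot_or_eq_top with h | h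
          · exact h
          · exfalso
            rw [h, Nat.card_congr Subgroup.topEquiv.toEquiv, Nat.odd_iff] at hodd
            omega
        have hZ := Cfsg.Agent.S0201.result T 0 (by simpa using e) hO
        rcases (inferInstance : (Subgroup.center G).Normal).eq_bot_or_eq_top with h | h
        · rw [h] at hZ
          simp at hZ
        · apply hG
          refine ⟨⟨fun a b => ?_⟩⟩
          have ha : a ∈ Subgroup.center G := by rw [h]; trivial
          exact (Subgroup.mem_center_iff.1 ha b).symm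
  · obtain ⟨hK, -⟩ := SmallSimple.EvenOrder.klein_four_of_not_dvd_eight hG h2 h8 T
    apply elem
    · intro x hx
      have := IsKleinFour.mul_self (⟨x, hx⟩ : T)
      exact congrArg Subtype.val this
    · have := hK.card_four
      rw [this]
      norm_num

end Cfsg.Agent.H362.IsoGroup
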