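import Mathlib

/-!
# Arithmetic of the numbers of elements of given order of the small Ree groups
-/

set_option autoImplicit false

namespace Cfsg.Agent.H362.ReeNum

/-- the arithmetic context: `s`, `t` are the orders `q - r + 1`, `q + r + 1` -/
structure Ctx (q r s t : ℤ) : Prop where
  q27 : 27 ≤ q
  r0 : 0 < r
  three : 3 ∣ q
  rr : r ^ 2 = 3 * q
  hs : s = q - r + 1
  ht : t = q + r + 1

def vb (q : ℤ) : ℤ := q ^ 2 * (q ^ 2 - q + 1)
def vc (q : ℤ) : ℤ := (q ^ 3 + 1) * (q ^ 2 - 1)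
def vd (q : ℤ) : ℤ := q ^ 2 * (q ^ 3 + 1) * (q - 1)
def vE (q : ℤ) : ℤ := q ^ 3 * (q ^ 3 + 1)
def vF (q : ℤ) : ℤ := q ^ 3 * (q - 1) * (q ^ 2 - q + 1)
/-- used with `t = q + r + 1` or `t = q - r + 1` -/
def vH (q t : ℤ) : ℤ := q ^ 3 * (q ^ 2 - 1) * t
/-- the order -/
def vG (q : ℤ) : ℤ := q ^ 3 * (q ^ 3 + 1) * (q - 1)

section

variable {q r s t : ℤ} (X : Ctx q r s t)

include X

theorem st : s * t = q ^ 2 - q + 1 := by
  rw [X.hs, X.ht]
  linear_combination - X.rr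

theorem q1_coprime : IsCoprime (q - 1) 3 := by
  obtain ⟨k, hk⟩ := X.three
  exact ⟨-1, k, by rw [hk]; ring⟩

theorem q2_coprime : IsCoprime (q + 1) 3 := by
  obtain ⟨k, hk⟩ := X.three
  exact ⟨1, -k, by rw [hk]; ring⟩

theorem three_dvd_r : (3 : ℤ) ∣ r := by
  have h1 : (3 : ℤ) ∣ r ^ 2 := ⟨q, X.rr⟩
  exact Int.prime_three.dvd_of_dvd_pow h1

theorem s_coprime : IsCoprime s 3 := by
  obtain ⟨k, hk⟩ := X.three
  obtain ⟨l, hl⟩ := three_dvd_r X
  exact ⟨1, l - k, by rw [X.hs]; linear_combination hk - hl⟩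

theorem t_coprime : IsCoprime t 3 := by
  obtain ⟨k, hk⟩ := X.three
  obtain ⟨l, hl⟩ := three_dvd_r X
  exact ⟨1, -l - k, by rw [X.ht]; linear_combination hk + hl⟩

/-- the main equation -/
def Eqn (q s t M ε a b A B C D : ℤ) : Prop :=
  3 * M = 3 + 3 * ε * vb q + 3 * a * vc q + 3 * b * vd q + 3 * A * vE q + B * vF q + C * vH q t + D * vH q s

theorem mod_q1 {M a b A B C D : ℤ} (h : Eqn q s t M 1 a b A B C D) (hM : (q - 1) ∣ M) :
    (q - 1) ∣ 2 * (A + 1) := by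
  obtain ⟨k, rfl⟩ := hM
  have h1 : (q - 1) ∣ 3 * (2 * (A + 1)) := by
    refine ⟨3 * k - 3 * (q ^ 3 + q + 1) - 3 * a * ((q ^ 3 + 1) * (q + 1)) - 3 * b * (q ^ 2 * (q ^ 3 + 1))
      - 3 * A * (q ^ 5 + q ^ 4 + q ^ 3 + 2 * q ^ 2 + 2 * q + 2) - B * (q ^ 3 * (q ^ 2 - q + 1))
      - C * (q ^ 3 * (q + 1) * t) - D * (q ^ 3 * (q + 1) * s), ?_⟩
    unfold Eqn vb vc vd vE vF vH at h
    linear_combination (-1 : ℤ) * h
  exact (q1_coprime X).dvd_of_dvd_mul_left h1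

theorem mod_q2 {M a b A B C D : ℤ} (h : Eqn q s t M 1 a b A B C D) (hM : (q + 1) ∣ M) :
    (q + 1) ∣ 2 * (B + 2) := by
  obtain ⟨k, rfl⟩ := hM
  have h1 : (q + 1) ∣ 3 * (2 * (B + 2)) := by
    refine ⟨3 * k - 3 * (q ^ 3 - 2 * q ^ 2 + 3 * q - 3) - 3 * a * ((q ^ 3 + 1) * (q - 1))
      - 3 * b * (q ^ 2 * (q ^ 2 - q + 1) * (q - 1))
      - 3 * A * (q ^ 3 * (q ^ 2 - q + 1))
      - B * (q ^ 5 - 3 * q ^ 4 + 5 * q ^ 3 - 6 * q ^ 2 + 6 * q - 6)
      - C * (q ^ 3 * (q - 1) * t) - D * (q ^ 3 * (q - 1) * s), ?_⟩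
    unfold Eqn vb vc vd vE vF vH at h
    linear_combination (-1 : ℤ) * h
  exact (q2_coprime X).dvd_of_dvd_mul_left h1

theorem H1_eq : ∃ w, vH q t = 6 + s * w := by
  refine ⟨q ^ 3 * (q ^ 2 - 1) + 2 * r * (q ^ 2 - 1) * (q + 1) * t - 2 * r * t - 2 * r - 6, ?_⟩
  unfold vH
  rw [X.ht, X.hs]
  have h := X.rr
  linear_combination ((2 * r * (q ^ 2 - 1) * (q + 1)) - 2 * r - 2) * h

theorem H2_eq : ∃ w, vH q s = 6 + t * w := by
  refine ⟨q ^ 3 * (q ^ 2 - 1) - 2 * r * (q ^ 2 - 1) * (q + 1) * s + 2 * r * s + 2 * r - 6, ?_⟩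
  unfold vH
  rw [X.ht, X.hs]
  have h := X.rr
  linear_combination (-(2 * r * (q ^ 2 - 1) * (q + 1)) + 2 * r - 2) * h

theorem mod_s {M ε a b A B C D : ℤ} (h : Eqn q s t M ε a b A B C D) (hM : s ∣ M) :
    s ∣ 2 * C + 1 := by
  obtain ⟨k, rfl⟩ := hM
  obtain ⟨w, hw⟩ := H1_eq X
  have hst := st X
  have h1 : s ∣ 3 * (2 * C + 1) := by
    refine ⟨3 * k - 3 * ε * (q ^ 2 * t) - 3 * a * ((q + 1) * t * (q ^ 2 - 1)) - 3 * b * (q ^ 2 * (q + 1) * t * (q - 1))
      - 3 * A * (q ^ 3 * (q + 1) * t) - B * (q ^ 3 * (q - 1) * t) - C * w - D * (q ^ 3 * (q ^ 2 - 1)), ?_⟩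
    unfold Eqn at h
    rw [hw] at h
    unfold vb vc vd vE vF vH at h
    linear_combination (-1 : ℤ) * h + (3 * ε * q ^ 2 + 3 * a * ((q + 1) * (q ^ 2 - 1)) + 3 * b * (q ^ 2 * (q + 1) * (q - 1))
      + 3 * A * (q ^ 3 * (q + 1)) + B * (q ^ 3 * (q - 1))) * hst
  exact (s_coprime X).dvd_of_dvd_mul_left h1

theorem mod_t {M ε a b A B C D : ℤ} (h : Eqn q s t M ε a b A B C D) (hM : t ∣ M) :
    t ∣ 2 * D + 1 := by
  obtain ⟨k, rfl⟩ := hM
  obtain ⟨w, hw⟩ := H2_eq X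
  have hst := st X
  have h1 : t ∣ 3 * (2 * D + 1) := by
    refine ⟨3 * k - 3 * ε * (q ^ 2 * s) - 3 * a * ((q + 1) * s * (q ^ 2 - 1)) - 3 * b * (q ^ 2 * (q + 1) * s * (q - 1))
      - 3 * A * (q ^ 3 * (q + 1) * s) - B * (q ^ 3 * (q - 1) * s) - D * w - C * (q ^ 3 * (q ^ 2 - 1)), ?_⟩
    unfold Eqn at h
    rw [hw] at h
    unfold vb vc vd vE vF vH at h
    linear_combination (-1 : ℤ) * h + (3 * ε * q ^ 2 + 3 * a * ((q + 1) * (q ^ 2 - 1)) + 3 * b * (q ^ 2 * (q + 1) * (q - 1))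
      + 3 * A * (q ^ 3 * (q + 1)) + B * (q ^ 3 * (q - 1))) * hst
  exact (t_coprime X).dvd_of_dvd_mul_left h1

theorem mod_cube {M a b A B C D : ℤ} (h : Eqn q s t M 1 a b A B C D) (hM : q ^ 3 ∣ M)
    (ha0 : 0 ≤ a) (ha : a ≤ 1) (hb0 : 0 ≤ b) (hb : b ≤ 2) : a = 1 ∧ b = 2 := by
  obtain ⟨k, rfl⟩ := hM
  have h27 := X.q27
  have h1 : q ^ 3 ∣ 3 * (1 - a + q ^ 2 * (1 + a - b)) := by
    refine ⟨3 * k - 3 * (q - 1) - 3 * a * (q ^ 2 - 1) - 3 * b * (q ^ 3 - q ^ 2 + 1) - 3 * A * (q ^ 3 + 1)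
      - B * ((q - 1) * (q ^ 2 - q + 1)) - C * ((q ^ 2 - 1) * t) - D * ((q ^ 2 - 1) * s), ?_⟩
    unfold Eqn vb vc vd vE vF vH at h
    linear_combination (-1 : ℤ) * h
  have ha1 : a = 1 := by
    by_contra hne
    have ha0' : a = 0 := by omega
    subst ha0'
    obtain ⟨l, hl⟩ := h1
    have h2 : q ∣ 3 := ⟨q ^ 2 * l - 3 * q * (1 - b), by linear_combination hl⟩
    have := Int.le_of_dvd (by norm_num) h2
    omega
  refine ⟨ha1, ?_⟩
  subst ha1
  obtain ⟨l, hl⟩ := h1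
  have h2 : q * l = 3 * (2 - b) := by
    have hq : q ^ 2 ≠ 0 := by positivity
    apply mul_left_cancel₀ hq
    linear_combination -hl
  have h3 : q ∣ 3 * (2 - b) := ⟨l, h2.symm⟩
  by_contra hne
  have h4 := Int.le_of_dvd (by omega) h3
  omega

/-- the equation of the small Ree groups -/
theorem identity : 2 * (3 * vG q) = 2 * 3 + 2 * 3 * vb q + 2 * 3 * vc q + 2 * 3 * 2 * vd q
    + 3 * (q - 3) * vE q + (q - 3) * vF q + (s - 1) * vH q t + (t - 1) * vH q s := by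
  have hst := st X
  have hh : s + t = 2 * (q + 1) := by rw [X.hs, X.ht]; ring
  unfold vG vb vc vd vE vF vH
  linear_combination (-2 * q ^ 3 * (q ^ 2 - 1)) * hst + q ^ 3 * (q ^ 2 - 1) * hh

end

section

variable {q r s t : ℤ} (X : Ctx q r s t)

include X

theorem bound_q1 {A : ℤ} (h : (q - 1) ∣ 2 * (A + 1)) (hA : 0 ≤ A) : q - 3 ≤ 2 * A := by
  have h27 := X.q27
  have := Int.le_of_dvd (by omega) h
  omega

theorem bound_q2 {B : ℤ} (h : (q + 1) ∣ 2 * (B + 2)) (hB : 0 ≤ B) : q - 3 ≤ 2 * B := by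
  have h27 := X.q27
  have := Int.le_of_dvd (by omega) h
  omega

omit X in
theorem bound_s {C s : ℤ} (h : s ∣ 2 * C + 1) (hC : 0 ≤ C) : s - 1 ≤ 2 * C := by
  have := Int.le_of_dvd (by omega) h
  omega

theorem s_pos : 0 < s := by
  have h1 := X.rr
  have h2 := X.hs
  have h27 := X.q27
  have h0 := X.r0
  rw [h2]
  nlinarith [sq_nonneg (r - q)]

theorem t_pos : 0 < t := by
  have h2 := X.ht
  have h27 := X.q27
  have h0 := X.r0
  omega

/-- **Uniqueness.** -/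
theorem unique {a b A B C D : ℤ} (h : Eqn q s t (vG q) 1 a b A B C D) (ha : 1 ≤ a) (hb : 1 ≤ b)
    (hA0 : 0 ≤ A) (hB0 : 0 ≤ B) (hC0 : 0 ≤ C) (hD0 : 0 ≤ D) :
    a = 1 ∧ b = 2 ∧ 2 * A = q - 3 ∧ 2 * B = q - 3 ∧ 2 * C = s - 1 ∧ 2 * D = t - 1 := by
  have h27 := X.q27
  have hsp := s_pos X
  have htp := t_pos X
  have hst := st X
  have e1 : (q - 1) ∣ vG q := ⟨q ^ 3 * (q ^ 3 + 1), by unfold vG; ring⟩
  have e2 : (q + 1) ∣ vG q := ⟨q ^ 3 * (q ^ 2 - q + 1) * (q - 1), by unfold vG; ring⟩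
  have e3 : s ∣ vG q := ⟨q ^ 3 * (q + 1) * t * (q - 1), by
    unfold vG; linear_combination (- q ^ 3 * (q + 1) * (q - 1)) * hst⟩
  have e4 : t ∣ vG q := ⟨q ^ 3 * (q + 1) * s * (q - 1), by
    unfold vG; linear_combination (- q ^ 3 * (q + 1) * (q - 1)) * hst⟩
  have m1 := mod_q1 X h e1
  have m2 := mod_q2 X h e2
  have m3 := mod_s X h e3
  have m4 := mod_t X h e4
  have b1 := bound_q1 X m1 hA0
  have b2 := bound_q2 X m2 hB0
  have b3 := bound_s m3 hC0
  have b4 := bound_s m4 hD0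
  have hid := identity X
  unfold Eqn at h
  -- values
  have pq : 0 < q := by omega
  have pvc : 0 < vc q := by unfold vc; exact mul_pos (by positivity) (by nlinarith)
  have pvd : 0 < vd q := by unfold vd; exact mul_pos (by positivity) (by omega)
  have pE : 0 < vE q := by unfold vE; positivity
  have pQ : 0 < q ^ 2 - q + 1 := by nlinarith
  have pF : 0 < vF q := by
    unfold vF; exact mul_pos (mul_pos (by positivity) (by omega)) pQ
  have pH1 : 0 < vH q t := by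
    unfold vH; exact mul_pos (mul_pos (by positivity) (by nlinarith)) htp
  have pH2 : 0 < vH q s := by
    unfold vH; exact mul_pos (mul_pos (by positivity) (by nlinarith)) hsp
  have pG : q * vd q = vG q := by unfold vd vG; ring
  have hF : (q + 1) * vF q = vG q := by unfold vF vG; ring
  have hH1 : s * vH q t = vG q := by
    unfold vH vG; linear_combination (q ^ 3 * (q ^ 2 - 1)) * hst
  have hH2 : t * vH q s = vG q := by
    unfold vH vG; linear_combination (q ^ 3 * (q ^ 2 - 1)) * hst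
  have hEd : vd q < vE q := by
    unfold vd vE
    have : q ^ 3 * (q ^ 3 + 1) - q ^ 2 * (q ^ 3 + 1) * (q - 1) = q ^ 2 * (q ^ 3 + 1) := by ring
    have h5 : 0 < q ^ 2 * (q ^ 3 + 1) := by positivity
    linarith
  -- the excess
  have hex : 6 * (a - 1) * vc q + 6 * (b - 1) * vd q + 3 * (2 * A - (q - 3)) * vE q
      + (2 * B - (q - 3)) * vF q + (2 * C - (s - 1)) * vH q t + (2 * D - (t - 1)) * vH q s = 6 * vd q := by
    linear_combination hid - 2 * h
  have n1 : 0 ≤ 6 * (a - 1) * vc q := mul_nonneg (by omega) pvc.le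
  have n2 : 0 ≤ 6 * (b - 1) * vd q := mul_nonneg (by omega) pvd.le
  have n3 : 0 ≤ 3 * (2 * A - (q - 3)) * vE q := mul_nonneg (by omega) pE.le
  have n4 : 0 ≤ (2 * B - (q - 3)) * vF q := mul_nonneg (by omega) pF.le
  have n5 : 0 ≤ (2 * C - (s - 1)) * vH q t := mul_nonneg (by omega) pH1.le
  have n6 : 0 ≤ (2 * D - (t - 1)) * vH q s := mul_nonneg (by omega) pH2.le
  have hGd : 27 * vd q ≤ vG q := by rw [← pG]; exact mul_le_mul_of_nonneg_right h27 pvd.le
  have k3 : 2 * A = q - 3 := by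
    by_contra hne
    have h5 : 1 ≤ 2 * A - (q - 3) := by omega
    obtain ⟨l, hl⟩ := m1
    have h6 : 2 * A - (q - 3) = (q - 1) * (l - 1) := by linear_combination hl
    have h7 : 0 < l - 1 := by
      by_contra h8
      have h9 : (q - 1) * (l - 1) ≤ 0 := mul_nonpos_of_nonneg_of_nonpos (by omega) (by omega)
      omega
    have h8 : q - 1 ≤ 2 * A - (q - 3) := by
      rw [h6]; nlinarith
    have h9 : 3 * (q - 1) * vE q ≤ 3 * (2 * A - (q - 3)) * vE q :=
      mul_le_mul_of_nonneg_right (by omega) pE.le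
    have h10 : 3 * (q - 1) * vE q = 3 * vG q := by unfold vE vG; ring
    linarith
  have k4 : 2 * B = q - 3 := by
    by_contra hne
    have h5 : 1 ≤ 2 * B - (q - 3) := by omega
    obtain ⟨l, hl⟩ := m2
    have h6 : 2 * B - (q - 3) = (q + 1) * (l - 1) := by linear_combination hl
    have h7 : 0 < l - 1 := by
      by_contra h8
      have h9 : (q + 1) * (l - 1) ≤ 0 := mul_nonpos_of_nonneg_of_nonpos (by omega) (by omega)
      omega
    have h8 : q + 1 ≤ 2 * B - (q - 3) := by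
      rw [h6]; nlinarith
    have h9 : (q + 1) * vF q ≤ (2 * B - (q - 3)) * vF q :=
      mul_le_mul_of_nonneg_right (by omega) pF.le
    linarith
  have k5 : 2 * C = s - 1 := by
    by_contra hne
    have h5 : 1 ≤ 2 * C - (s - 1) := by omega
    obtain ⟨l, hl⟩ := m3
    have h6 : 2 * C - (s - 1) = s * (l - 1) := by linear_combination hl
    have h7 : 0 < l - 1 := by
      by_contra h8
      have h9 : s * (l - 1) ≤ 0 := mul_nonpos_of_nonneg_of_nonpos (by omega) (by omega)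
      omega
    have h8 : s ≤ 2 * C - (s - 1) := by
      rw [h6]; nlinarith
    have h9 : s * vH q t ≤ (2 * C - (s - 1)) * vH q t :=
      mul_le_mul_of_nonneg_right (by omega) pH1.le
    linarith
  have k6 : 2 * D = t - 1 := by
    by_contra hne
    have h5 : 1 ≤ 2 * D - (t - 1) := by omega
    obtain ⟨l, hl⟩ := m4
    have h6 : 2 * D - (t - 1) = t * (l - 1) := by linear_combination hl
    have h7 : 0 < l - 1 := by
      by_contra h8
      have h9 : t * (l - 1) ≤ 0 := mul_nonpos_of_nonneg_of_nonpos (by omega) (by omega)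
      omega
    have h8 : t ≤ 2 * D - (t - 1) := by
      rw [h6]; nlinarith
    have h9 : t * vH q s ≤ (2 * D - (t - 1)) * vH q s :=
      mul_le_mul_of_nonneg_right (by omega) pH2.le
    linarith
  have hex2 : (a - 1) * vc q + (b - 1) * vd q = vd q := by
    rw [k3, k4, k5, k6] at hex
    linarith
  have kb : b = 2 := by
    by_contra hne
    have hb1 : b = 1 := by
      by_contra hne2
      have h5 : 2 * vd q ≤ (b - 1) * vd q := mul_le_mul_of_nonneg_right (by omega) pvd.le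
      have h6 : 0 ≤ (a - 1) * vc q := mul_nonneg (by omega) pvc.le
      linarith
    subst hb1
    have h5 : (a - 1) * (q + 1) = q ^ 2 := by
      have h6 : (q ^ 3 + 1) * (q - 1) ≠ 0 := by
        apply mul_ne_zero
        · positivity
        · omega
      apply mul_left_cancel₀ h6
      unfold vc vd at hex2
      linear_combination hex2
    have h7 : (q + 1) ∣ 1 := ⟨(a - 1) - (q - 1), by linear_combination -h5⟩
    have := Int.le_of_dvd (by norm_num) h7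
    omega
  refine ⟨?_, kb, k3, k4, k5, k6⟩
  subst kb
  have h5 : (a - 1) * vc q = 0 := by linarith
  rcases mul_eq_zero.1 h5 with h6 | h6
  · omega
  · omega

end

end Cfsg.Agent.H362.ReeNum
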