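import Mathlib
import Cfsg.Agent.H418.Nse
import Cfsg.Agent.H362.ReeNum

/-!
# Groups with the order and the numbers of elements of given order of a small Ree group

The primes dividing `s = q - r + 1` are not joined to other primes in the prime graph; the same for `t = q + r + 1`.
-/

set_option autoImplicit false
set_option linter.unusedSectionVars false

namespace Cfsg.Agent.H362.NseArith

open Cfsg.Agent.H418.Nse Cfsg.Agent.H418.Frob
open Cfsg.Agent.H362.ReeNum

universe u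

/-- the values of the numbers of elements of given order -/
def Typ (q s t : ℤ) (c : ℤ) : Prop :=
  c = 1 ∨ c = vb q ∨ c = vc q ∨ c = vd q ∨ (∃ k : ℕ, c = k * vE q) ∨ (∃ k : ℕ, 3 * c = k * vF q) ∨
    (∃ k : ℕ, 3 * c = k * vH q t) ∨ (∃ k : ℕ, 3 * c = k * vH q s)

section regular

variable {G : Type u} [Group G] [Finite G]

/-- the number of elements of order prime to `p` -/
theorem dvd_sum_regular {p d : ℕ} (hp : p.Prime) (hpd : ¬ p ∣ d) (hd : d ∣ Nat.card G) :
    d ∣ ∑ n ∈ (Nat.card G).divisors.filter (fun n => ¬ p ∣ n), co G n := by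
  have h0 : Nat.card G ≠ 0 := Nat.card_pos.ne'
  have h1 : (Nat.card G).divisors.filter (fun n => ¬ p ∣ n) = (ordCompl[p] (Nat.card G)).divisors := by
    ext n
    rw [Finset.mem_filter, Nat.mem_divisors, Nat.mem_divisors]
    constructor
    · rintro ⟨⟨h2, -⟩, h3⟩
      refine ⟨?_, (Nat.ordCompl_pos p h0).ne'⟩
      have h4 : Nat.Coprime n (p ^ (Nat.card G).factorization p) :=
        (Nat.Coprime.pow_left _ ((Nat.Prime.coprime_iff_not_dvd hp).2 h3)).symm
      apply h4.dvd_of_dvd_mul_left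
      rw [Nat.ordProj_mul_ordCompl_eq_self]
      exact h2
    · rintro ⟨h2, -⟩
      exact ⟨⟨h2.trans (Nat.ordCompl_dvd _ _), h0⟩, fun h3 => Nat.not_dvd_ordCompl hp h0 (h3.trans h2)⟩
  rw [h1, ← cnt_eq_sum G (Nat.ordCompl_pos p h0).ne']
  refine dvd_trans ?_ (frobenius_dvd _ (Nat.ordCompl_dvd _ _))
  have h4 : Nat.Coprime d (p ^ (Nat.card G).factorization p) :=
    (Nat.Coprime.pow_left _ ((Nat.Prime.coprime_iff_not_dvd hp).2 hpd)).symm
  apply h4.dvd_of_dvd_mul_left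
  rw [Nat.ordProj_mul_ordCompl_eq_self]
  exact hd

theorem sum_all : ∑ n ∈ (Nat.card G).divisors, co G n = Nat.card G := by
  rw [← cnt_eq_sum G Nat.card_pos.ne']
  unfold cnt
  exact Nat.card_congr (Equiv.subtypeUnivEquiv fun x => pow_card_eq_one')

end regular

section primes

variable {q r s t : ℤ} (X : Ctx q r s t)

include X

theorem odd_r (hq : Odd q) : Odd r := by
  have h1 : Odd (r ^ 2) := by rw [X.rr]; exact Odd.mul (by decide) hq
  by_contra h
  rw [Int.not_odd_iff_even] at h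
  have h2 : Even (r ^ 2) := h.pow_of_ne_zero two_ne_zero
  exact (Int.not_even_iff_odd.2 h1) h2

theorem odd_s (hq : Odd q) : Odd s := by
  have h1 := odd_r X hq
  rw [X.hs]
  exact (hq.sub_odd h1).add_odd odd_one

theorem odd_t (hq : Odd q) : Odd t := by
  have h1 := odd_r X hq
  rw [X.ht]
  exact (hq.add_odd h1).add_odd odd_one

theorem prime_s (hq : Odd q) {p : ℤ} (hp : Prime p) (h : p ∣ s * t) :
    ¬ p ∣ 2 ∧ ¬ p ∣ 3 ∧ ¬ p ∣ q ∧ ¬ p ∣ q - 1 ∧ ¬ p ∣ q + 1 := by
  have h3 : ¬ p ∣ 3 := by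
    intro h3
    rcases hp.dvd_or_dvd h with h4 | h4
    · obtain ⟨a, b, hab⟩ := s_coprime X
      apply hp.not_isUnit
      rw [isUnit_iff_dvd_one, ← hab]
      exact dvd_add (h4.mul_left _) (h3.mul_left _)
    · obtain ⟨a, b, hab⟩ := t_coprime X
      apply hp.not_isUnit
      rw [isUnit_iff_dvd_one, ← hab]
      exact dvd_add (h4.mul_left _) (h3.mul_left _)
  have h2 : ¬ p ∣ 2 := by
    intro h2
    have h4 : Odd (s * t) := (odd_s X hq).mul (odd_t X hq)
    obtain ⟨l, hl⟩ := h4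
    rw [hl] at h
    apply hp.not_isUnit
    rw [isUnit_iff_dvd_one]
    exact (dvd_add_right (h2.mul_right l)).1 h
  rw [st X] at h
  refine ⟨h2, h3, ?_, ?_, ?_⟩
  · intro h4
    apply hp.not_isUnit
    rw [isUnit_iff_dvd_one]
    have : (1 : ℤ) = (q ^ 2 - q + 1) - q * (q - 1) := by ring
    rw [this]
    exact dvd_sub h (h4.mul_right _)
  · intro h4
    apply hp.not_isUnit
    rw [isUnit_iff_dvd_one]
    have : (1 : ℤ) = (q ^ 2 - q + 1) - (q - 1) * q := by ring
    rw [this]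
    exact dvd_sub h (h4.mul_right _)
  · intro h4
    apply h3
    have : (3 : ℤ) = (q ^ 2 - q + 1) - (q + 1) * (q - 2) := by ring
    rw [this]
    exact dvd_sub h (h4.mul_right _)

theorem prime_s_t (hq : Odd q) {p : ℤ} (hp : Prime p) (h1 : p ∣ s) (h2 : p ∣ t) : False := by
  obtain ⟨k2, k3, kq, -, -⟩ := prime_s X hq hp (h1.mul_right t)
  have h3 : p ∣ 2 * r := by
    have : 2 * r = t - s := by rw [X.ht, X.hs]; ring
    rw [this]
    exact dvd_sub h2 h1
  rcases hp.dvd_or_dvd h3 with h4 | h4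
  · exact k2 h4
  · have h5 : p ∣ 3 * q := by rw [← X.rr, pow_two]; exact h4.mul_right r
    rcases hp.dvd_or_dvd h5 with h6 | h6
    · exact k3 h6
    · exact kq h6

end primes

section main

variable {G : Type u} [Group G] [Finite G] {q r s t : ℤ}

theorem vals_pos (X : Ctx q r s t) :
    0 < vc q ∧ 0 < vd q ∧ 0 < vE q ∧ 0 < vF q ∧ 0 < vH q t ∧ 0 < vH q s := by
  have h27 := X.q27
  have hsp := s_pos X
  have htp := t_pos X
  have pq : 0 < q := by omega
  have pQ : 0 < q ^ 2 - q + 1 := by nlinarith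
  refine ⟨?_, ?_, ?_, ?_, ?_, ?_⟩
  · unfold vc; exact mul_pos (by positivity) (by nlinarith)
  · unfold vd; exact mul_pos (by positivity) (by omega)
  · unfold vE; positivity
  · unfold vF; exact mul_pos (mul_pos (by positivity) (by omega)) pQ
  · unfold vH; exact mul_pos (mul_pos (by positivity) (by nlinarith)) htp
  · unfold vH; exact mul_pos (mul_pos (by positivity) (by nlinarith)) hsp

theorem vb_lt (X : Ctx q r s t) : 1 < vb q ∧ vb q < vc q ∧ vc q < vd q := by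
  have h27 := X.q27
  have pq : 0 < q := by omega
  refine ⟨?_, ?_, ?_⟩
  · unfold vb
    nlinarith [mul_pos pq pq, mul_pos (mul_pos pq pq) pq]
  · unfold vb vc
    have h1 : (q ^ 3 + 1) * (q ^ 2 - 1) - q ^ 2 * (q ^ 2 - q + 1) = q ^ 4 * (q - 1) - 1 := by ring
    have h2 : 1 ≤ q ^ 4 := by
      have : 0 < q ^ 4 := by positivity
      omega
    nlinarith
  · unfold vc vd
    have h1 : q ^ 2 * (q ^ 3 + 1) * (q - 1) - (q ^ 3 + 1) * (q ^ 2 - 1) =
      (q ^ 3 + 1) * ((q - 1) * (q ^ 2 - q - 1)) := by ring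
    have h2 : 0 < (q ^ 3 + 1) * ((q - 1) * (q ^ 2 - q - 1)) :=
      mul_pos (by positivity) (mul_pos (by omega) (by nlinarith))
    omega

theorem co_two (X : Ctx q r s t) (hq : Odd q) (hvb : ∃ n, (co G n : ℤ) = vb q) :
    (co G 2 : ℤ) = vb q := by
  obtain ⟨n, hn⟩ := hvb
  have hodd : Odd (vb q) := by
    unfold vb
    have h1 : Odd (q ^ 2 - q + 1) := (hq.pow.sub_odd hq).add_odd odd_one
    exact hq.pow.mul h1
  have h1 : Odd (co G n) := by
    have h2 : Odd (co G n : ℤ) := by rw [hn]; exact hodd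
    exact_mod_cast h2
  rcases le_two_of_odd G h1 with rfl | rfl
  · rw [co_one] at hn
    have := (vb_lt X).1
    rw [← hn] at this
    norm_num at this
  · exact hn

theorem exists_coeff (X : Ctx q r s t) (hq : Odd q)
    (hT : ∀ n, co G n ≠ 0 → Typ q s t (co G n)) (h2 : (co G 2 : ℤ) = vb q) (n : ℕ) :
    ∃ a b A B C D : ℕ,
      3 * (co G n : ℤ) = 3 * (if n = 1 then 1 else 0) + 3 * (if n = 2 then 1 else 0) * vb q + 3 * a * vc q +
        3 * b * vd q + 3 * A * vE q + B * vF q + C * vH q t + D * vH q s ∧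
        ((co G n : ℤ) = vc q → a = 1) ∧ ((co G n : ℤ) = vd q → b = 1) := by
  obtain ⟨l1, l2, l3⟩ := vb_lt X
  have hoddb : Odd (vb q) := by
    unfold vb
    have h1 : Odd (q ^ 2 - q + 1) := (hq.pow.sub_odd hq).add_odd odd_one
    exact hq.pow.mul h1
  by_cases h1n : n = 1
  · subst h1n
    refine ⟨0, 0, 0, 0, 0, 0, ?_, ?_, ?_⟩
    · rw [co_one]; norm_num
    · rw [co_one]; intro h; push_cast at h; omega
    · rw [co_one]; intro h; push_cast at h; omega
  by_cases h2n : n = 2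
  · subst h2n
    refine ⟨0, 0, 0, 0, 0, 0, ?_, ?_, ?_⟩
    · rw [h2]; norm_num
    · rw [h2]; intro h; omega
    · rw [h2]; intro h; omega
  have hev : ¬ Odd (co G n) := by
    intro h
    rcases le_two_of_odd G h with h | h
    · exact h1n h
    · exact h2n h
  have hev' : ¬ Odd (co G n : ℤ) := fun h => hev (by exact_mod_cast h)
  rw [if_neg h1n, if_neg h2n]
  by_cases h0 : co G n = 0
  · refine ⟨0, 0, 0, 0, 0, 0, ?_, ?_, ?_⟩
    · rw [h0]; norm_num
    · rw [h0]; intro h; push_cast at h; omega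
    · rw [h0]; intro h; push_cast at h; omega
  by_cases hc : (co G n : ℤ) = vc q
  · refine ⟨1, 0, 0, 0, 0, 0, ?_, fun _ => rfl, ?_⟩
    · rw [hc]; push_cast; ring
    · rw [hc]; intro h; omega
  by_cases hd : (co G n : ℤ) = vd q
  · refine ⟨0, 1, 0, 0, 0, 0, ?_, ?_, fun _ => rfl⟩
    · rw [hd]; push_cast; ring
    · rw [hd]; intro h; omega
  rcases hT n h0 with h | h | h | h | ⟨k, h⟩ | ⟨k, h⟩ | ⟨k, h⟩ | ⟨k, h⟩
  · exact absurd (by rw [h]; exact odd_one) hev'
  · exact absurd (by rw [h]; exact hoddb) hev'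
  · exact absurd h hc
  · exact absurd h hd
  · exact ⟨0, 0, k, 0, 0, 0, by rw [h]; push_cast; ring, fun h => absurd h hc, fun h => absurd h hd⟩
  · exact ⟨0, 0, 0, k, 0, 0, by rw [h]; push_cast; ring, fun h => absurd h hc, fun h => absurd h hd⟩
  · exact ⟨0, 0, 0, 0, k, 0, by rw [h]; push_cast; ring, fun h => absurd h hc, fun h => absurd h hd⟩
  · exact ⟨0, 0, 0, 0, 0, k, by rw [h]; push_cast; ring, fun h => absurd h hc, fun h => absurd h hd⟩

/-- the data of coefficients -/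
structure Coeff (G : Type u) [Group G] (q s t : ℤ) (a b A B C D : ℕ → ℕ) : Prop where
  eq : ∀ n, 3 * (co G n : ℤ) = 3 * (if n = 1 then 1 else 0) + 3 * (if n = 2 then 1 else 0) * vb q +
    3 * (a n : ℤ) * vc q + 3 * (b n : ℤ) * vd q + 3 * (A n : ℤ) * vE q + (B n : ℤ) * vF q +
      (C n : ℤ) * vH q t + (D n : ℤ) * vH q s
  ha : ∀ n, (co G n : ℤ) = vc q → a n = 1
  hb : ∀ n, (co G n : ℤ) = vd q → b n = 1

variable {a b A B C D : ℕ → ℕ}

/-- the summed equation -/
theorem Coeff.sum (Y : Coeff G q s t a b A B C D) (N : Finset ℕ) (h1 : 1 ∈ N) :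
    Eqn q s t (∑ n ∈ N, (co G n : ℤ)) (if 2 ∈ N then 1 else 0) (∑ n ∈ N, (a n : ℤ)) (∑ n ∈ N, (b n : ℤ))
      (∑ n ∈ N, (A n : ℤ)) (∑ n ∈ N, (B n : ℤ)) (∑ n ∈ N, (C n : ℤ)) (∑ n ∈ N, (D n : ℤ)) := by
  unfold Eqn
  have h2 : 3 * ∑ n ∈ N, (co G n : ℤ) = ∑ n ∈ N, (3 * (if n = 1 then 1 else 0) + 3 * (if n = 2 then 1 else 0) * vb q +
    3 * (a n : ℤ) * vc q + 3 * (b n : ℤ) * vd q + 3 * (A n : ℤ) * vE q + (B n : ℤ) * vF q +
      (C n : ℤ) * vH q t + (D n : ℤ) * vH q s) := by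
    rw [Finset.mul_sum]
    exact Finset.sum_congr rfl fun n _ => Y.eq n
  rw [h2]
  simp only [Finset.sum_add_distrib, ← Finset.sum_mul, ← Finset.mul_sum, Finset.sum_ite_eq', h1, if_true]
  ring

theorem sum_split (f : ℕ → ℕ) (N : Finset ℕ) (P : ℕ → Prop) [DecidablePred P] :
    ∑ n ∈ N, (f n : ℤ) = ∑ n ∈ N.filter P, (f n : ℤ) + ∑ n ∈ N.filter (fun n => ¬ P n), (f n : ℤ) :=
  (Finset.sum_filter_add_sum_filter_not N P _).symm

theorem sum_nonneg' (f : ℕ → ℕ) (N : Finset ℕ) : 0 ≤ ∑ n ∈ N, (f n : ℤ) :=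
  Finset.sum_nonneg fun _ _ => Int.natCast_nonneg _

theorem eq_zero_of_sum {f : ℕ → ℕ} {N : Finset ℕ} (h : ∑ n ∈ N, (f n : ℤ) ≤ 0) {n : ℕ} (hn : n ∈ N) :
    f n = 0 := by
  have h1 : (f n : ℤ) ≤ ∑ n ∈ N, (f n : ℤ) :=
    Finset.single_le_sum (f := fun n => (f n : ℤ)) (fun _ _ => Int.natCast_nonneg _) hn
  omega

theorem isolated (X : Ctx q r s t) (hq : Odd q) (hG : (Nat.card G : ℤ) = vG q)
    (hT : ∀ n, co G n ≠ 0 → Typ q s t (co G n)) (hvb : ∃ n, (co G n : ℤ) = vb q)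
    (hvc : ∃ n, (co G n : ℤ) = vc q) (hvd : ∃ n, (co G n : ℤ) = vd q) :
    (co G 2 : ℤ) = vb q ∧
      (∀ p p' n : ℕ, p.Prime → p'.Prime → (p : ℤ) ∣ s → ¬ (p' : ℤ) ∣ s → p ∣ n → p' ∣ n → co G n = 0) ∧
      (∀ p p' n : ℕ, p.Prime → p'.Prime → (p : ℤ) ∣ t → ¬ (p' : ℤ) ∣ t → p ∣ n → p' ∣ n → co G n = 0) := by
  classical
  have h2 := co_two X hq hvb
  refine ⟨h2, ?_⟩
  choose a b A B C D hY ha hb using exists_coeff X hq hT h2
  have Y : Coeff G q s t a b A B C D := ⟨hY, ha, hb⟩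
  obtain ⟨l1, l2, l3⟩ := vb_lt X
  obtain ⟨pc, pd, pE, pF, pH1, pH2⟩ := vals_pos X
  have h27 := X.q27
  have hq0 : 0 < q := by omega
  have hst := st X
  set N := (Nat.card G).divisors with hN
  have h0 : Nat.card G ≠ 0 := Nat.card_pos.ne'
  have h1N : 1 ∈ N := Nat.one_mem_divisors.2 h0
  have hmem : ∀ n, co G n ≠ 0 → n ∈ N := by
    intro n hn
    rw [hN, Nat.mem_divisors]
    refine ⟨?_, h0⟩
    by_contra hcon
    exact hn (co_eq_zero_of_not_dvd G hcon)
  have h2N : 2 ∈ N := hmem 2 (by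
    intro h
    rw [h] at h2
    push_cast at h2
    omega)
  -- the full sum
  have hfull := Y.sum N h1N
  have hsum : ∑ n ∈ N, (co G n : ℤ) = vG q := by
    rw [← hG, ← sum_all (G := G)]
    push_cast
    rfl
  rw [hsum, if_pos h2N] at hfull
  have hc1 : 1 ≤ ∑ n ∈ N, (a n : ℤ) := by
    obtain ⟨n, hn⟩ := hvc
    have h3 := Finset.single_le_sum (f := fun n => (a n : ℤ)) (fun n _ => Int.natCast_nonneg _)
      (hmem n (by intro h; rw [h] at hn; push_cast at hn; omega))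
    simp only [ha n hn] at h3
    exact_mod_cast h3
  have hd1 : 1 ≤ ∑ n ∈ N, (b n : ℤ) := by
    obtain ⟨n, hn⟩ := hvd
    have h3 := Finset.single_le_sum (f := fun n => (b n : ℤ)) (fun n _ => Int.natCast_nonneg _)
      (hmem n (by intro h; rw [h] at hn; push_cast at hn; omega))
    simp only [hb n hn] at h3
    exact_mod_cast h3
  obtain ⟨ua, ub, uA, uB, uC, uD⟩ := unique X hfull hc1 hd1 (sum_nonneg' A N) (sum_nonneg' B N) (sum_nonneg' C N)
    (sum_nonneg' D N)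
  -- divisors of the order
  have dG : ∀ (p : ℕ) (d : ℤ), p.Prime → 0 ≤ d → ¬ (p : ℤ) ∣ d → d ∣ vG q →
      d ∣ ∑ n ∈ N.filter (fun n => ¬ p ∣ n), (co G n : ℤ) := by
    intro p d hp hd0 hpd hd
    obtain ⟨e, rfl⟩ := Int.eq_ofNat_of_zero_le hd0
    rw [← hG] at hd
    have h3 : e ∣ Nat.card G := by exact_mod_cast hd
    have h4 := dvd_sum_regular (G := G) hp (fun h => hpd (by exact_mod_cast h)) h3
    have h5 : ((e : ℕ) : ℤ) ∣ ((∑ n ∈ N.filter (fun n => ¬ p ∣ n), co G n : ℕ) : ℤ) := by exact_mod_cast h4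
    rwa [Nat.cast_sum] at h5
  have e1 : (q - 1) ∣ vG q := ⟨q ^ 3 * (q ^ 3 + 1), by unfold vG; ring⟩
  have e2 : (q + 1) ∣ vG q := ⟨q ^ 3 * (q ^ 2 - q + 1) * (q - 1), by unfold vG; ring⟩
  have e3 : s ∣ vG q := ⟨q ^ 3 * (q + 1) * t * (q - 1), by
    unfold vG; linear_combination (- q ^ 3 * (q + 1) * (q - 1)) * hst⟩
  have e4 : t ∣ vG q := ⟨q ^ 3 * (q + 1) * s * (q - 1), by
    unfold vG; linear_combination (- q ^ 3 * (q + 1) * (q - 1)) * hst⟩
  have e5 : q ^ 3 ∣ vG q := ⟨(q ^ 3 + 1) * (q - 1), by unfold vG; ring⟩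
  have hsp := s_pos X
  have htp := t_pos X
  have h1f : ∀ p : ℕ, p.Prime → 1 ∈ N.filter (fun n => ¬ p ∣ n) := by
    intro p hp
    rw [Finset.mem_filter]
    exact ⟨h1N, fun h => hp.one_lt.ne' (Nat.dvd_one.1 h)⟩
  -- the partial sums
  have part : ∀ p : ℕ, p.Prime → (p : ℤ) ∣ s * t →
      ∀ n, p ∣ n → a n = 0 ∧ b n = 0 ∧ A n = 0 ∧ B n = 0 := by
    intro p hp hpst n hpn
    have hpZ : Prime (p : ℤ) := Nat.prime_iff_prime_int.1 hp
    obtain ⟨k2, k3, kq, kq1, kq2⟩ := prime_s X hq hpZ hpst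
    have h2f : 2 ∈ N.filter (fun n => ¬ p ∣ n) := by
      rw [Finset.mem_filter]
      exact ⟨h2N, fun h => k2 (by exact_mod_cast h)⟩
    have hp1 := Y.sum _ (h1f p hp)
    rw [if_pos h2f] at hp1
    have m1 := bound_q1 X (mod_q1 X hp1 (dG p _ hp (by omega) kq1 e1)) (sum_nonneg' _ _)
    have m2 := bound_q2 X (mod_q2 X hp1 (dG p _ hp (by omega) kq2 e2)) (sum_nonneg' _ _)
    have sa := sum_split a N (fun n => p ∣ n)
    have sb := sum_split b N (fun n => p ∣ n)
    have sA := sum_split A N (fun n => p ∣ n)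
    have sB := sum_split B N (fun n => p ∣ n)
    have na := sum_nonneg' a (N.filter fun n => p ∣ n)
    have nb := sum_nonneg' b (N.filter fun n => p ∣ n)
    have m3 := mod_cube X hp1 (dG p _ hp (by positivity) (fun h => kq (hpZ.dvd_of_dvd_pow h)) e5)
      (sum_nonneg' _ _) (by omega) (sum_nonneg' _ _) (by omega)
    have hnN : n ∈ N → n ∈ N.filter (fun n => p ∣ n) := fun h => Finset.mem_filter.2 ⟨h, hpn⟩
    by_cases hn : n ∈ N
    · exact ⟨eq_zero_of_sum (by omega) (hnN hn), eq_zero_of_sum (by omega) (hnN hn),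
        eq_zero_of_sum (by omega) (hnN hn), eq_zero_of_sum (by omega) (hnN hn)⟩
    · have hco : co G n = 0 := by
        by_contra hcon
        exact hn (hmem n hcon)
      have h3 := Y.eq n
      have hn1 : n ≠ 1 := by rintro rfl; exact hn h1N
      have hn2 : n ≠ 2 := by rintro rfl; exact hn h2N
      rw [hco, if_neg hn1, if_neg hn2] at h3
      have z1 : 0 ≤ 3 * (a n : ℤ) * vc q := by positivity
      have z2 : 0 ≤ 3 * (b n : ℤ) * vd q := by positivity
      have z3 : 0 ≤ 3 * (A n : ℤ) * vE q := by positivity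
      have z4 : 0 ≤ (B n : ℤ) * vF q := by positivity
      have z5 : 0 ≤ (C n : ℤ) * vH q t := by positivity
      have z6 : 0 ≤ (D n : ℤ) * vH q s := by positivity
      push_cast at h3
      have y1 : 3 * (a n : ℤ) * vc q = 0 := by linarith
      have y2 : 3 * (b n : ℤ) * vd q = 0 := by linarith
      have y3 : 3 * (A n : ℤ) * vE q = 0 := by linarith
      have y4 : (B n : ℤ) * vF q = 0 := by linarith
      rw [mul_eq_zero] at y1 y2 y3 y4
      refine ⟨?_, ?_, ?_, ?_⟩ <;> omega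
  refine ⟨?_, ?_⟩
  · intro p p' n hp hp' hps hp's hpn hp'n
    by_contra hcon
    have hn := hmem n hcon
    have hpZ : Prime (p : ℤ) := Nat.prime_iff_prime_int.1 hp
    obtain ⟨z1, z2, z3, z4⟩ := part p hp (hps.mul_right t) n hpn
    obtain ⟨k2, -, -, -, -⟩ := prime_s X hq hpZ (hps.mul_right t)
    -- D
    have z5 : D n = 0 := by
      have hp1 := Y.sum _ (h1f p hp)
      have m1 := bound_s (mod_t X hp1 (dG p _ hp htp.le (fun h => prime_s_t X hq hpZ hps h) e4)) (sum_nonneg' _ _)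
      have sD := sum_split D N (fun n => p ∣ n)
      exact eq_zero_of_sum (N := N.filter (fun n => p ∣ n)) (by omega) (Finset.mem_filter.2 ⟨hn, hpn⟩)
    have z6 : C n = 0 := by
      have hp1 := Y.sum _ (h1f p' hp')
      have m1 := bound_s (mod_s X hp1 (dG p' _ hp' hsp.le hp's e3)) (sum_nonneg' _ _)
      have sC := sum_split C N (fun n => p' ∣ n)
      exact eq_zero_of_sum (N := N.filter (fun n => p' ∣ n)) (by omega) (Finset.mem_filter.2 ⟨hn, hp'n⟩)
    have h3 := Y.eq n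
    have hn1 : n ≠ 1 := by rintro rfl; exact hp.one_lt.ne' (Nat.dvd_one.1 hpn)
    have hn2 : n ≠ 2 := by rintro rfl; exact k2 (by exact_mod_cast hpn)
    rw [z1, z2, z3, z4, z5, z6, if_neg hn1, if_neg hn2] at h3
    push_cast at h3
    apply hcon
    have : (co G n : ℤ) = 0 := by linarith
    exact_mod_cast this
  · intro p p' n hp hp' hps hp's hpn hp'n
    by_contra hcon
    have hn := hmem n hcon
    have hpZ : Prime (p : ℤ) := Nat.prime_iff_prime_int.1 hp
    obtain ⟨z1, z2, z3, z4⟩ := part p hp (hps.mul_left s) n hpn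
    obtain ⟨k2, -, -, -, -⟩ := prime_s X hq hpZ (hps.mul_left s)
    have z5 : C n = 0 := by
      have hp1 := Y.sum _ (h1f p hp)
      have m1 := bound_s (mod_s X hp1 (dG p _ hp hsp.le (fun h => prime_s_t X hq hpZ h hps) e3)) (sum_nonneg' _ _)
      have sC := sum_split C N (fun n => p ∣ n)
      exact eq_zero_of_sum (N := N.filter (fun n => p ∣ n)) (by omega) (Finset.mem_filter.2 ⟨hn, hpn⟩)
    have z6 : D n = 0 := by
      have hp1 := Y.sum _ (h1f p' hp')
      have m1 := bound_s (mod_t X hp1 (dG p' _ hp' htp.le hp's e4)) (sum_nonneg' _ _)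
      have sD := sum_split D N (fun n => p' ∣ n)
      exact eq_zero_of_sum (N := N.filter (fun n => p' ∣ n)) (by omega) (Finset.mem_filter.2 ⟨hn, hp'n⟩)
    have h3 := Y.eq n
    have hn1 : n ≠ 1 := by rintro rfl; exact hp.one_lt.ne' (Nat.dvd_one.1 hpn)
    have hn2 : n ≠ 2 := by rintro rfl; exact k2 (by exact_mod_cast hpn)
    rw [z1, z2, z3, z4, z5, z6, if_neg hn1, if_neg hn2] at h3
    push_cast at h3
    apply hcon
    have : (co G n : ℤ) = 0 := by linarith
    exact_mod_cast this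

end main

end Cfsg.Agent.H362.NseArith
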