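import Mathlib
import Cfsg.Agent.H362.IsoGroup
import Cfsg.Agent.H478.WalterAll
import Cfsg.Agent.S0483
import Cfsg.Agent.SmallSimple.PSLTwoPart
import Cfsg.Agent.ClassicalGeometry.SLTwoFour
import Cfsg.Agent.SporadicB.J1.Main
import Cfsg.Agent.H363.PSL2Spec

/-!
# Simple groups of order not divisible by 16 with isolated sets of primes
-/

set_option autoImplicit false
set_option linter.unusedSectionVars false

namespace Cfsg.Agent.H362.ReeElim

open Subgroup
open Cfsg
open Cfsg.Agent.H363.Frat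
open Cfsg.Agent.H362.IsoGroup

universe u

/-- Simple groups of order not divisible by `16`. -/
theorem classify {S : Type u} [Group S] [Finite S] [IsSimpleGroup S] (hS : ¬ IsMulCommutative S)
    (h4 : 4 ∣ Nat.card S) (h16 : ¬ 16 ∣ Nat.card S) :
    Nat.card S ≤ 504 ∨
    (∃ (F : Type) (_ : Field F) (_ : Fintype F), Odd (Fintype.card F) ∧
      Nonempty (S ≃* Matrix.ProjectiveSpecialLinearGroup (Fin 2) F)) ∨
    (8 ∣ Nat.card S ∧ (Nat.card S = 2520 ∨ Nat.card S = 175560)) ∨ Cfsg.Lie.IsoRee S := by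
  classical
  have : Fact (Nat.Prime 2) := ⟨Nat.prime_two⟩
  have h2 : 2 ∣ Nat.card S := (by norm_num : 2 ∣ 4).trans h4
  obtain ⟨T⟩ : Nonempty (Sylow 2 S) := inferInstance
  by_cases hab : IsMulCommutative (T : Subgroup S)
  · have hab' : ∀ x ∈ (T : Subgroup S), ∀ y ∈ (T : Subgroup S), x * y = y * x :=
      fun x hx y hy => congrArg Subtype.val (hab.is_comm.comm (⟨x, hx⟩ : T) ⟨y, hy⟩)
    rcases Cfsg.Agent.H478.WalterAll.iso_of_abelian hS T hab' with ⟨F, iF, iF', n, hn, hF, ⟨e⟩⟩ |
      ⟨F, iF, iF', hF, h5, ⟨e⟩⟩ | h | ⟨⟨e⟩⟩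
    · left
      have hev : Even (Fintype.card F) := by
        rw [hF]
        exact (even_two).pow_of_ne_zero (by omega)
      have hN := SmallSimple.PSLTwoPart.card_psl_two_even hev
      rw [← Nat.card_congr e.toEquiv, hF] at hN
      have hn4 : n < 4 := by
        by_contra hge
        apply h16
        rw [hN]
        exact Dvd.dvd.mul_right (Nat.pow_dvd_pow 2 (show 4 ≤ n by omega)) _
      rw [hN]
      interval_cases n <;> norm_num
    · right; left
      refine ⟨F, iF, iF', ?_, ⟨e⟩⟩
      rw [Nat.odd_iff]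
      omega
    · exact Or.inr (Or.inr (Or.inr h))
    · right; right; left
      have hc : Nat.card S = 175560 := by
        rw [Nat.card_congr e.toEquiv]
        exact SporadicB.J1.Main.isJ1.2
      refine ⟨by rw [hc]; norm_num, Or.inr hc⟩
  · have h8 : 8 ∣ Nat.card S := by
      by_contra h8
      obtain ⟨hK, -⟩ := SmallSimple.EvenOrder.klein_four_of_not_dvd_eight hS h2 h8 T
      exact hab hK.isMulCommutative
    have hT := SmallSimple.SylowEight.card_sylow_eight h8 h16 T
    have hO : ∀ N : Subgroup S, N.Normal → Odd (Nat.card N) → N = ⊥ := by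
      intro N hN hodd
      rcases hN.eq_bot_or_eq_top with h | h
      · exact h
      · exfalso
        rw [h, Nat.card_congr Subgroup.topEquiv.toEquiv, Nat.odd_iff] at hodd
        omega
    rcases SmallSimple.OrderEight.dihedral_or_quaternion_of_card_eight hT hab with ⟨⟨e⟩⟩ | ⟨⟨e⟩⟩
    · have hperf : Group.IsPerfect S := by
        refine ⟨?_⟩
        have hnc : commutator S ≠ ⊥ := by
          intro h
          apply hS
          have := (commutator_eq_bot_iff_center_eq_top (G := S)).1 h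
          refine ⟨⟨fun a b => ?_⟩⟩
          have ha : a ∈ Subgroup.center S := by rw [this]; trivial
          exact (Subgroup.mem_center_iff.1 ha b).symm
        exact (Subgroup.Normal.eq_bot_or_eq_top (H := commutator S) inferInstance).resolve_left hnc
      have hcore : Cfsg.oddCore S = ⊥ := by
        refine sSup_eq_bot.2 ?_
        rintro N ⟨hN1, hN2⟩
        exact hO N hN1 (Nat.coprime_two_right.1 hN2)
      have e1 : S ⧸ Cfsg.oddCore S ≃* S :=
        (QuotientGroup.quotientMulEquivOfEq hcore).trans QuotientGroup.quotientBot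
      rcases Cfsg.Agent.S0483.result T 4 (by norm_num) ⟨e⟩ with ⟨F, iF, iF', hodd, h3, ⟨f⟩⟩ | ⟨⟨f⟩⟩
      · right; left
        exact ⟨F, iF, iF', hodd, ⟨e1.symm.trans f⟩⟩
      · right; right; left
        refine ⟨h8, Or.inl ?_⟩
        rw [Nat.card_congr (e1.symm.trans f).toEquiv, nat_card_alternatingGroup]
        simp [Nat.factorial]
    · exfalso
      have hZ := Cfsg.Agent.S0201.result T 0 (by simpa using e) hO
      rcases (inferInstance : (Subgroup.center S).Normal).eq_bot_or_eq_top with h | h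
      · rw [h] at hZ
        simp at hZ
      · apply hS
        refine ⟨⟨fun a b => ?_⟩⟩
        have ha : a ∈ Subgroup.center S := by rw [h]; trivial
        exact (Subgroup.mem_center_iff.1 ha b).symm

/-- one class of involutions -/
theorem involutions_dvd {S : Type*} [Group S] [Finite S]
    (hc : ∀ x y : S, orderOf x = 2 → orderOf y = 2 → IsConj x y) (h2 : 2 ∣ Nat.card S) :
    Nat.card {x : S // orderOf x = 2} ∣ Nat.card S := by
  classical
  have : Fact (Nat.Prime 2) := ⟨Nat.prime_two⟩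
  obtain ⟨a, ha⟩ := exists_prime_orderOf_dvd_card' 2 h2
  have h1 : Nat.card {x : S // orderOf x = 2} = (MulAction.orbit (ConjAct S) a).ncard := by
    rw [← Nat.card_coe_set_eq]
    apply Nat.card_congr
    apply Equiv.subtypeEquivRight
    intro x
    rw [ConjAct.mem_orbit_conjAct]
    constructor
    · intro hx
      exact hc x a hx ha
    · intro hx
      rw [isConj_iff] at hx
      obtain ⟨c, hcx⟩ := hx
      rw [← ha, ← hcx]
      exact (MulEquiv.orderOf_eq (MulAut.conj c) x).symm
  rw [h1, ← MulAction.index_stabilizer]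
  exact (MulAction.stabilizer (ConjAct S) a).index_dvd_card

/-- the primes of the order of an element -/
theorem isol_prime_dvd {H : Type*} [Group H] {s : ℕ} (h : Isol s H) {x : H} {n p p' : ℕ}
    (hx : orderOf x = n) (hp : p.Prime) (hp' : p'.Prime) (hps : p ∣ s) (hpn : p ∣ n) (hpn' : p' ∣ n) :
    p' ∣ s := by
  by_contra hcon
  exact h x p p' hp hp' hps hcon (by rw [hx]; exact hpn) (by rw [hx]; exact hpn')

/-- `PSL(2, q₀)`, `q₀` odd. -/
theorem psl_two {S : Type*} [Group S] [Finite S] {F : Type*} [Field F] [Fintype F]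
    (hodd : Odd (Fintype.card F)) (e : S ≃* Matrix.ProjectiveSpecialLinearGroup (Fin 2) F) {s t : ℕ}
    (hs : Isol s S) (ht : Isol t S) (hcop : Nat.Coprime s t) (h2 : ¬ 2 ∣ s * t) (s1 : 1 < s) (hst : s < t)
    (hd : s * t ∣ Nat.card S) (hN : ∀ p k : ℕ, p.Prime → p ∣ s * t → p ^ k ∣ Nat.card S → p ^ k ∣ s * t) :
    Fintype.card F = t ∧ 2 * s ≤ t + 1 := by
  classical
  have t1 : 1 < t := by omega
  obtain ⟨a, ha⟩ := hodd
  have hcard := SmallSimple.PSLTwoPart.card_psl_two_odd (F := F) ⟨a, ha⟩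
  rw [← Nat.card_congr e.toEquiv] at hcard
  have ha0 : 0 < a := by
    have : 1 < Fintype.card F := Fintype.one_lt_card
    omega
  have hcard' : Nat.card S = 2 * (Fintype.card F * (a * (a + 1))) := by
    have h3 : Fintype.card F ^ 2 - 1 = 4 * (a * (a + 1)) := by
      rw [ha]
      have : (2 * a + 1) ^ 2 = 4 * (a * (a + 1)) + 1 := by ring
      omega
    rw [h3] at hcard
    linarith
  have hgcd : Nat.gcd 2 (Fintype.card F - 1) = 2 := by
    rw [ha]
    exact Nat.gcd_eq_left ⟨a, by omega⟩
  obtain ⟨x, hx⟩ := Cfsg.Agent.H363.PSL2Spec.exists_split (F := F) rfl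
  obtain ⟨y, hy⟩ := Cfsg.Agent.H363.PSL2Spec.exists_nonsplit (F := F) rfl
  rw [hgcd] at hx hy
  have hx' : orderOf (e.symm x) = a := by rw [MulEquiv.orderOf_eq, hx]; omega
  have hy' : orderOf (e.symm y) = a + 1 := by rw [MulEquiv.orderOf_eq, hy]; omega
  obtain ⟨f, p₀, hp₀, hf0, hF⟩ : ∃ f p₀ : ℕ, p₀.Prime ∧ f ≠ 0 ∧ Fintype.card F = p₀ ^ f := by
    obtain ⟨p, hp⟩ := CharP.exists F
    obtain ⟨n, hp1, hn⟩ := FiniteField.card F p
    exact ⟨n, p, hp1, n.2.ne', hn⟩
  -- the odd and the even torus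
  obtain ⟨c, c', hcc, zc, zc', hzc, hzc', hev, hcle⟩ : ∃ c c' : ℕ, a * (a + 1) = c * c' ∧
      ∃ zc zc' : S, orderOf zc = c ∧ orderOf zc' = c' ∧ 2 ∣ c' ∧ (c = a ∨ c = a + 1) := by
    rcases Nat.even_or_odd a with h | h
    · exact ⟨a + 1, a, by ring, e.symm y, e.symm x, hy', hx', h.two_dvd, Or.inr rfl⟩
    · exact ⟨a, a + 1, rfl, e.symm x, e.symm y, hx', hy', h.add_one.two_dvd, Or.inl rfl⟩
  have hc0 : c ≠ 0 := by omega
  have hcopc : Nat.Coprime (Fintype.card F) c := by
    rw [ha]
    apply Nat.isCoprime_iff_coprime.1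
    rcases hcle with rfl | rfl
    · exact ⟨1, -2, by push_cast; ring⟩
    · exact ⟨-1, 2, by push_cast; ring⟩
  have hdd : s * t ∣ Fintype.card F * c := by
    rw [hcard', hcc] at hd
    have h5 : Nat.Coprime (s * t) (2 * c') := by
      apply Nat.Coprime.mul_right
      · rw [Nat.coprime_comm]; exact (Nat.Prime.coprime_iff_not_dvd Nat.prime_two).2 h2
      · apply Nat.coprime_of_dvd
        intro p hp h6 h7
        rcases (Nat.Prime.dvd_mul hp).1 h6 with h8 | h8
        · exact h2 ((isol_prime_dvd hs hzc' hp Nat.prime_two h8 h7 hev).mul_right t)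
        · exact h2 ((isol_prime_dvd ht hzc' hp Nat.prime_two h8 h7 hev).mul_left s)
    apply h5.dvd_of_dvd_mul_left
    have : 2 * c' * (Fintype.card F * c) = 2 * (Fintype.card F * (c * c')) := by ring
    rw [this]
    exact hd
  have hFd : Fintype.card F ∣ Nat.card S := by
    rw [hcard']
    exact ⟨2 * (a * (a + 1)), by ring⟩
  have hp0F : ∀ p : ℕ, p.Prime → p ∣ Fintype.card F → p = p₀ := by
    intro p hp h5
    rw [hF] at h5
    exact (Nat.prime_dvd_prime_iff_eq hp hp₀).1 (hp.dvd_of_dvd_pow h5)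
  -- `q₀` divides `s t`
  have hFst : p₀ ∣ s * t → Fintype.card F ∣ s * t := by
    intro h5
    rw [hF]
    exact hN p₀ f hp₀ h5 (hF ▸ hFd)
  have hle : c ≤ a + 1 := by omega
  obtain ⟨p₁, hp₁, h₁⟩ := Nat.exists_prime_and_dvd s1.ne'
  obtain ⟨p₂, hp₂, h₂⟩ := Nat.exists_prime_and_dvd t1.ne'
  have hncop : ∀ p : ℕ, p.Prime → p ∣ s → p ∣ t → False := fun p hp h5 h6 =>
    hp.one_lt.ne' (Nat.eq_one_of_dvd_coprimes hcop h5 h6)
  by_cases hp2c : p₂ ∣ c
  · exfalso
    -- all primes of `c` divide `t`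
    have hct : ∀ p : ℕ, p.Prime → p ∣ c → p ∣ t := fun p hp h5 => isol_prime_dvd ht hzc hp₂ hp h₂ hp2c h5
    have hsc : Nat.Coprime s c := by
      apply Nat.coprime_of_dvd
      intro p hp h5 h6
      exact hncop p hp h5 (hct p hp h6)
    have hsF : s ∣ Fintype.card F := hsc.dvd_of_dvd_mul_right ((Dvd.intro _ rfl).trans hdd)
    have hp0 : p₁ = p₀ := hp0F p₁ hp₁ (h₁.trans hsF)
    have htF : Nat.Coprime t (Fintype.card F) := by
      apply Nat.coprime_of_dvd
      intro p hp h5 h6
      have := hp0F p hp h6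
      rw [this, ← hp0] at h5
      exact hncop p₁ hp₁ h₁ h5
    have htc : t ∣ c := htF.dvd_of_dvd_mul_left ((Dvd.intro_left _ rfl).trans hdd)
    have hFs : Fintype.card F ∣ s := by
      have h5 := hFst (hp0 ▸ (h₁.mul_right t))
      exact htF.symm.dvd_of_dvd_mul_right h5
    have h5 := Nat.le_of_dvd (by omega) hFs
    have h6 := Nat.le_of_dvd (by omega) htc
    omega
  · have hp2F : p₂ ∣ Fintype.card F :=
      ((Nat.Prime.dvd_mul hp₂).1 ((h₂.mul_left s).trans hdd)).resolve_right hp2c
    have hp0 : p₂ = p₀ := hp0F p₂ hp₂ hp2F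
    have hsF : Nat.Coprime s (Fintype.card F) := by
      apply Nat.coprime_of_dvd
      intro p hp h5 h6
      have := hp0F p hp h6
      rw [this, ← hp0] at h5
      exact hncop p₂ hp₂ h5 h₂
    have hsc : s ∣ c := hsF.dvd_of_dvd_mul_left ((Dvd.intro _ rfl).trans hdd)
    have hcs : ∀ p : ℕ, p.Prime → p ∣ c → p ∣ s := fun p hp h5 =>
      isol_prime_dvd hs hzc hp₁ hp h₁ (h₁.trans hsc) h5
    have htc : Nat.Coprime t c := by
      apply Nat.coprime_of_dvd
      intro p hp h5 h6
      exact hncop p hp (hcs p hp h6) h5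
    have htF : t ∣ Fintype.card F := htc.dvd_of_dvd_mul_right ((Dvd.intro_left _ rfl).trans hdd)
    have hFt : Fintype.card F ∣ t := by
      have h5 := hFst (hp0 ▸ (h₂.mul_left s))
      exact hsF.symm.dvd_of_dvd_mul_left h5
    have h5 := Nat.dvd_antisymm hFt htF
    refine ⟨h5, ?_⟩
    have h6 := Nat.le_of_dvd (by omega) hsc
    omega

/-- the case `q = 27`, `q₀ = 37` -/
theorem kill_37 {H : Type*} [Group H] [Finite H] (S : Subgroup H) [S.Normal] (hS : Nat.card S = 25308)
    (h8 : 8 ∣ Nat.card H) (hi : NonAdj H 19 2) : False := by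
  classical
  have : Fact (Nat.Prime 19) := ⟨by norm_num⟩
  have : Fact (Nat.Prime 2) := ⟨Nat.prime_two⟩
  let Y : Sylow 19 S := default
  have hY : Nat.card Y = 19 := by
    rw [Y.card_eq_multiplicity, hS]
    have : (25308 : ℕ).factorization 19 = 1 := by
      rw [show (25308 : ℕ) = 19 * 1332 by norm_num, Nat.factorization_mul (by norm_num) (by norm_num)]
      rw [Finsupp.add_apply, Nat.Prime.factorization_self (by norm_num),
        Nat.factorization_eq_zero_of_not_dvd (by norm_num)]
    rw [this]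
    norm_num
  have hmod : Nat.card (Sylow 19 S) ≡ 1 [MOD 19] := card_sylow_modEq_one 19 S
  have hidx : (Y : Subgroup S).index = 1332 := by
    have h1 := (Y : Subgroup S).card_mul_index
    rw [hY, hS] at h1
    omega
  have hn : Nat.card (Sylow 19 S) ∣ 1332 := hidx ▸ Y.card_dvd_index
  -- the normaliser in `H`
  set Y' : Subgroup H := (Y : Subgroup S).map S.subtype with hY'
  have hcY' : Nat.card Y' = 19 := by
    rw [hY', Nat.card_congr ((Y : Subgroup S).equivMapOfInjective S.subtype S.subtype_injective).symm.toEquiv]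
    exact hY
  have hcyc : IsCyclic Y' := isCyclic_of_prime_card (p := 19) hcY'
  have hN : normalizer (Y' : Set H) ⊔ S = ⊤ := Sylow.normalizer_sup_eq_top Y
  have hidxN : (normalizer (Y' : Set H)).index = Nat.card (Sylow 19 S) := by
    rw [Y.card_eq_index_normalizer]
    have h1 : (normalizer (Y' : Set H)).relIndex S = (normalizer (Y' : Set H)).index := by
      have h2 := Subgroup.relIndex_sup_right (normalizer (Y' : Set H)) S
      rw [hN, Subgroup.relIndex_top_right] at h2
      have h3 := Subgroup.relIndex_mul_index (inf_le_left : normalizer (Y' : Set H) ⊓ S ≤ normalizer (Y' : Set H))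
      have h4 := Subgroup.relIndex_mul_index (inf_le_right : normalizer (Y' : Set H) ⊓ S ≤ S)
      rw [Subgroup.inf_relIndex_left, ← h2] at h3
      rw [Subgroup.inf_relIndex_right, ← h3, mul_comm] at h4
      exact Nat.eq_of_mul_eq_mul_left (Nat.pos_of_ne_zero S.index_ne_zero_of_finite) h4
    rw [← h1]
    show ((normalizer (Y' : Set H)).subgroupOf S).index = _
    congr 1
    ext x
    show _ ↔ x ∈ normalizer ((Y : Subgroup S) : Set S)
    rw [mem_subgroupOf, mem_normalizer_iff, mem_normalizer_iff]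
    constructor
    · intro h z
      have h3 := h (z : H)
      constructor
      · intro hz
        have h4 : ((x : H) * z * (x : H)⁻¹) ∈ Y' := h3.1 ⟨z, hz, rfl⟩
        obtain ⟨w, hw, hw2⟩ := h4
        have : w = x * z * x⁻¹ := Subtype.ext hw2
        rw [← this]; exact hw
      · intro hz
        have h4 : (z : H) ∈ Y' := h3.2 ⟨x * z * x⁻¹, hz, rfl⟩
        obtain ⟨w, hw, hw2⟩ := h4
        have : w = z := Subtype.ext hw2
        rw [← this]; exact hw
    · intro h z
      constructor
      · rintro ⟨w, hw, rfl⟩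
        exact ⟨x * w * x⁻¹, (h w).1 hw, rfl⟩
      · rintro ⟨w, hw, hw2⟩
        refine ⟨x⁻¹ * w * x, (h _).2 ?_, ?_⟩
        · have : x * (x⁻¹ * w * x) * x⁻¹ = w := by group
          rw [this]; exact hw
        · show (x : H)⁻¹ * w * x = z
          have : (w : H) = x * z * (x : H)⁻¹ := hw2
          rw [this]; group
  -- the centraliser
  have hCodd : ¬ 2 ∣ Nat.card (centralizer (Y' : Set H)) := by
    intro h2
    obtain ⟨c, hc⟩ := exists_prime_orderOf_dvd_card' 2 h2
    have hY1 : Y' ≠ ⊥ := by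
      intro hb
      rw [hb, Subgroup.card_bot] at hcY'
      omega
    obtain ⟨⟨y, hy⟩, hy1⟩ := (Subgroup.ne_bot_iff_exists_ne_one).1 hY1
    have hoy : orderOf y = 19 := by
      have h3 : orderOf (⟨y, hy⟩ : Y') ∣ 19 := hcY' ▸ orderOf_dvd_natCard _
      rw [Subgroup.orderOf_mk] at h3
      rcases (Nat.dvd_prime (by norm_num)).1 h3 with h4 | h4
      · exact absurd (Subtype.ext (orderOf_eq_one_iff.1 h4)) hy1
      · exact h4
    have hcm : Commute y (c : H) := (mem_centralizer_iff.1 c.2 y hy)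
    have hc' : orderOf (c : H) = 2 := by rw [Subgroup.orderOf_coe]; exact hc
    have h5 := eq_one_of_commute (by norm_num) Nat.prime_two (by norm_num) hi ⟨1, by rw [hoy, pow_one]⟩
      ⟨1, by rw [hc', pow_one]⟩ hcm (by intro h; rw [h, orderOf_one] at hc'; omega)
    exact hy1 (Subtype.ext h5)
  have hkey := Subgroup.card_dvd_of_injective _ (QuotientGroup.kerLift_injective Y'.normalizerMonoidHom)
  rw [Subgroup.normalizerMonoidHom_ker, ← Subgroup.index, ← Subgroup.relIndex, IsCyclic.card_mulAut, hcY'] at hkey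
  have hcN : Nat.card (normalizer (Y' : Set H)) =
      Nat.card (centralizer (Y' : Set H)) * (centralizer (Y' : Set H)).relIndex (normalizer (Y' : Set H)) := by
    have hle : centralizer (Y' : Set H) ≤ normalizer (Y' : Set H) := centralizer_le_normalizer _
    have h1 := ((centralizer (Y' : Set H)).subgroupOf (normalizer (Y' : Set H))).card_mul_index
    rw [Nat.card_congr (subgroupOfEquivOfLe hle).toEquiv] at h1
    exact h1.symm
  have h4N : ¬ 4 ∣ Nat.card (normalizer (Y' : Set H)) := by
    intro h4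
    rw [hcN] at h4
    have h5 : Nat.Coprime 4 (Nat.card (centralizer (Y' : Set H))) := by
      have : (4 : ℕ) = 2 ^ 2 := by norm_num
      rw [this]
      exact Nat.Coprime.pow_left 2 ((Nat.Prime.coprime_iff_not_dvd Nat.prime_two).2 hCodd)
    have h6 := (h5.dvd_of_dvd_mul_left h4).trans hkey
    have h7 : Nat.totient 19 = 18 := by rw [Nat.totient_prime (by norm_num)]
    rw [h7] at h6
    omega
  have h4n : 4 ∣ Nat.card (Sylow 19 S) := by
    have h5 := (normalizer (Y' : Set H)).card_mul_index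
    rw [hidxN] at h5
    rw [← h5] at h8
    by_contra h6
    generalize Nat.card (normalizer (Y' : Set H)) = A at *
    generalize Nat.card (Sylow 19 S) = B at *
    rcases Nat.even_or_odd' A with ⟨A', rfl | rfl⟩
    · have hA' : Odd A' := by
        rw [← Nat.not_even_iff_odd, even_iff_two_dvd]
        rintro ⟨l, rfl⟩
        exact h4N ⟨l, by ring⟩
      have h7 : 4 ∣ A' * B := by
        have : 2 * 4 ∣ 2 * (A' * B) := by rw [← mul_assoc]; exact h8
        exact Nat.dvd_of_mul_dvd_mul_left (by norm_num) this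
      have h9 : Nat.Coprime 4 A' := by
        have : (4 : ℕ) = 2 ^ 2 := by norm_num
        rw [this]
        exact Nat.Coprime.pow_left 2 (Nat.coprime_two_left.2 hA')
      exact h6 (h9.dvd_of_dvd_mul_left h7)
    · have h9 : Nat.Coprime 8 (2 * A' + 1) := by
        have : (8 : ℕ) = 2 ^ 3 := by norm_num
        rw [this]
        exact Nat.Coprime.pow_left 3 (Nat.coprime_two_left.2 ⟨A', rfl⟩)
      exact h6 ((by norm_num : 4 ∣ 8).trans (h9.dvd_of_dvd_mul_left h8))
  have hmem : Nat.card (Sylow 19 S) ∈ (1332 : ℕ).divisors := Nat.mem_divisors.2 ⟨hn, by norm_num⟩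
  have hlist : ∀ n ∈ (1332 : ℕ).divisors, n % 19 = 1 → ¬ 4 ∣ n := by decide +kernel
  exact hlist _ hmem hmod h4n

end Cfsg.Agent.H362.ReeElim
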