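import Mathlib
import Cfsg.Agent.H362.IsoGroup
import Cfsg.Agent.H366.AlmostSimple
import Cfsg.Agent.S0205
import Cfsg.Agent.H495.NotFour

/-!
# Groups of the order of a small Ree group with isolated primes
-/

set_option autoImplicit false
set_option linter.unusedSectionVars false

namespace Cfsg.Agent.H362.ReeGroup

open Subgroup
open Cfsg.Agent.H363.Frat
open Cfsg.Agent.H362.IsoGroup

universe u

/-- the hypothesis -/
structure Hyp (G : Type u) [Group G] (q s t : ℕ) : Prop where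
  card : Nat.card G = q ^ 3 * (q ^ 3 + 1) * (q - 1)
  q8 : q % 8 = 3
  st : s * t + q = q ^ 2 + 1
  s1 : 1 < s
  t1 : 1 < t
  cop : Nat.Coprime s t
  two : ¬ 2 ∣ s * t
  three : ¬ 3 ∣ s * t
  is : Isol s G
  it : Isol t G

/-- no solvable section -/
theorem no_solvable {K : Type*} [Group K] [Finite K] {s t : ℕ} (hs : Isol s K) (ht : Isol t K)
    (hcop : Nat.Coprime s t) (hst2 : ¬ 2 ∣ s * t) (hK : Group.IsSolvable K) (h2 : 2 ∣ Nat.card K)
    {p₁ p₂ : ℕ} (hp₁ : p₁.Prime) (hp₂ : p₂.Prime) (h₁ : p₁ ∣ s) (h₂ : p₂ ∣ t)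
    (k₁ : p₁ ∣ Nat.card K) (k₂ : p₂ ∣ Nat.card K) : False := by
  have n1 : ¬ 2 ∣ s := fun h => hst2 (h.mul_right t)
  have n2 : ¬ 2 ∣ t := fun h => hst2 (h.mul_left s)
  have n3 : ¬ p₂ ∣ s := fun h => hp₂.one_lt.ne' (Nat.eq_one_of_dvd_coprimes hcop h h₂)
  have e1 : 2 ≠ p₁ := by rintro rfl; exact n1 h₁
  have e2 : 2 ≠ p₂ := by rintro rfl; exact n2 h₂
  have e3 : p₁ ≠ p₂ := by rintro rfl; exact n3 h₁
  rcases Cfsg.Agent.H431.Lucido.lucido hK Nat.prime_two hp₁ hp₂ e1 e2 e3 h2 k₁ k₂ with ⟨x, hx⟩ | ⟨x, hx⟩ | ⟨x, hx⟩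
  · exact (hs.nonAdj hp₁ Nat.prime_two h₁ n1).symm x hx
  · exact (ht.nonAdj hp₂ Nat.prime_two h₂ n2).symm x hx
  · exact hs.nonAdj hp₁ hp₂ h₁ n3 x hx

variable {G : Type u} [Group G] [Finite G] {q s t : ℕ}

theorem Hyp.q_pos (h : Hyp G q s t) : 3 ≤ q := by have := h.q8; omega

theorem Hyp.two_eight (h : Hyp G q s t) : 8 ∣ Nat.card G ∧ ¬ 16 ∣ Nat.card G := by
  obtain ⟨k, hk⟩ : ∃ k, q = 8 * k + 3 := ⟨q / 8, by have := h.q8; omega⟩
  have h1 : q ^ 3 = 2 * (256 * k ^ 3 + 288 * k ^ 2 + 108 * k + 13) + 1 := by rw [hk]; ring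
  have h2 : q ^ 3 + 1 = 4 * (2 * (64 * k ^ 3 + 72 * k ^ 2 + 27 * k + 3) + 1) := by rw [hk]; ring
  have h3 : q - 1 = 2 * (2 * (2 * k) + 1) := by omega
  rw [h.card, h2, h3]
  generalize h4 : 256 * k ^ 3 + 288 * k ^ 2 + 108 * k + 13 = a at h1
  generalize 64 * k ^ 3 + 72 * k ^ 2 + 27 * k + 3 = b at *
  rw [h1]
  have h5 : (2 * a + 1) * (4 * (2 * b + 1)) * (2 * (2 * (2 * k) + 1)) =
      8 * ((2 * a + 1) * (2 * b + 1) * (2 * (2 * k) + 1)) := by ring
  rw [h5]
  refine ⟨Dvd.intro _ rfl, ?_⟩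
  intro h6
  have h7 : 2 ∣ (2 * a + 1) * (2 * b + 1) * (2 * (2 * k) + 1) := by
    have : 8 * 2 ∣ 8 * ((2 * a + 1) * (2 * b + 1) * (2 * (2 * k) + 1)) := by norm_num; exact h6
    exact Nat.dvd_of_mul_dvd_mul_left (by norm_num) this
  rw [Nat.prime_two.dvd_mul, Nat.prime_two.dvd_mul] at h7
  omega

theorem Hyp.card' (h : Hyp G q s t) : Nat.card G = q ^ 3 * (q + 1) * (s * t) * (q - 1) := by
  rw [h.card]
  have h1 := h.st
  have h2 : q ^ 3 + 1 = (q + 1) * (s * t) := by
    have h3 : (q + 1) * (s * t + q) = (q + 1) * (q ^ 2 + 1) := by rw [h1]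
    nlinarith
  rw [h2]
  ring

theorem Hyp.dvd (h : Hyp G q s t) : s * t ∣ Nat.card G := by
  rw [h.card']
  exact ⟨q ^ 3 * (q + 1) * (q - 1), by ring⟩

theorem Hyp.primes (h : Hyp G q s t) :
    ∃ p₁ p₂ : ℕ, p₁.Prime ∧ p₂.Prime ∧ p₁ ∣ s ∧ p₂ ∣ t := by
  obtain ⟨p₁, h1, h2⟩ := Nat.exists_prime_and_dvd h.s1.ne'
  obtain ⟨p₂, h3, h4⟩ := Nat.exists_prime_and_dvd h.t1.ne'
  exact ⟨p₁, p₂, h1, h3, h2, h4⟩

theorem Hyp.not_solvable (h : Hyp G q s t) : ¬ Group.IsSolvable G := by
  intro hs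
  obtain ⟨p₁, p₂, h1, h2, h3, h4⟩ := h.primes
  exact no_solvable h.is h.it h.cop h.two hs ((by norm_num : 2 ∣ 8).trans h.two_eight.1) h1 h2 h3 h4
    ((h3.mul_right t).trans h.dvd) ((h4.mul_left s).trans h.dvd)

theorem Hyp.nonAdj_two (h : Hyp G q s t) {p : ℕ} (hp : p.Prime) (hst : p ∣ s * t) :
    NonAdj G p 2 := by
  rcases (Nat.Prime.dvd_mul hp).1 hst with h1 | h1
  · exact h.is.nonAdj hp Nat.prime_two h1 (fun h2 => h.two (h2.mul_right t))
  · exact h.it.nonAdj hp Nat.prime_two h1 (fun h2 => h.two (h2.mul_left s))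

/-- the solvable radical has odd order -/
theorem Hyp.odd_radical (h : Hyp G q s t) (K : Subgroup G) [K.Normal] (hK : Group.IsSolvable K) :
    Odd (Nat.card K) := by
  by_contra hodd
  rw [Nat.not_odd_iff_even, even_iff_two_dvd] at hodd
  obtain ⟨p₁, p₂, h1, h2, h3, h4⟩ := h.primes
  obtain ⟨e8, e16⟩ := h.two_eight
  have hmul := K.card_mul_index
  have hK0 : Nat.card K ≠ 0 := Nat.card_pos.ne'
  set j := (Nat.card K).factorization 2 with hj
  have hj1 : 1 ≤ j := Nat.Prime.factorization_pos_of_dvd Nat.prime_two hK0 hodd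
  have hjd : 2 ^ j ∣ Nat.card K := Nat.ordProj_dvd _ _
  have hj3 : j ≤ 3 := by
    by_contra hcon
    apply e16
    have : 2 ^ 4 ∣ 2 ^ j := pow_dvd_pow 2 (by omega)
    exact (this.trans hjd).trans (K.card_subgroup_dvd_card)
  -- a prime dividing `s t` and the index
  have key : ∀ p : ℕ, p.Prime → p ∣ s * t → p ∣ K.index → j = 3 := by
    intro p hp hpst hpi
    have h5 := pow_dvd_of_normal hp Nat.prime_two (by rintro rfl; exact h.two hpst)
      (h.nonAdj_two hp hpst) K (k := 1) (by rw [pow_one]; exact hpi)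
    rw [pow_one, ← hj] at h5
    by_contra hne
    have h6 : j = 1 ∨ j = 2 := by omega
    rcases h6 with h6 | h6
    · rw [h6] at h5
      norm_num at h5
      exact hp.one_lt.ne' h5
    · rw [h6] at h5
      norm_num at h5
      have := (Nat.prime_dvd_prime_iff_eq hp Nat.prime_three).1 h5
      rw [this] at hpst
      exact h.three hpst
  have hdv : ∀ p : ℕ, p.Prime → p ∣ s * t → ¬ p ∣ K.index → p ∣ Nat.card K := by
    intro p hp hpst hpi
    have h5 := hpst.trans h.dvd
    rw [← hmul] at h5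
    exact ((Nat.Prime.dvd_mul hp).1 h5).resolve_right hpi
  by_cases hj' : j = 3
  · -- the quotient has odd order
    have h5 : Odd (Nat.card (G ⧸ K)) := by
      rw [← Nat.not_even_iff_odd, even_iff_two_dvd]
      intro h6
      apply e16
      rw [← hmul, Subgroup.index_eq_card]
      have h7 : 2 ^ 3 ∣ Nat.card K := hj' ▸ hjd
      have : 2 ^ 3 * 2 ∣ Nat.card K * Nat.card (G ⧸ K) := mul_dvd_mul h7 h6
      exact (by norm_num : 16 ∣ 2 ^ 3 * 2).trans this
    have h6 : Group.IsSolvable (G ⧸ K) := Cfsg.Agent.S0205.result h5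
    apply h.not_solvable
    exact Group.isSolvable_of_ker_le_range K.subtype (QuotientGroup.mk' K) (by
      rw [QuotientGroup.ker_mk', Subgroup.range_subtype])
  · have i1 : p₁ ∣ Nat.card K := hdv p₁ h1 (h3.mul_right t) (fun hc => hj' (key p₁ h1 (h3.mul_right t) hc))
    have i2 : p₂ ∣ Nat.card K := hdv p₂ h2 (h4.mul_left s) (fun hc => hj' (key p₂ h2 (h4.mul_left s) hc))
    exact no_solvable (h.is.subgroup K) (h.it.subgroup K) h.cop h.two hK hodd h1 h2 h3 h4 i1 i2

/-- the radical has order prime to `s t` -/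
theorem Hyp.coprime_radical (h : Hyp G q s t) (K : Subgroup G) [K.Normal] (hodd : Odd (Nat.card K))
    {a b : G ⧸ K} (ha : orderOf a = 2) (hb : orderOf b = 2) (hab : a ≠ b) (hc : Commute a b) {p : ℕ}
    (hp : p.Prime) (hst : p ∣ s * t) : ¬ p ∣ Nat.card K := by
  intro hpK
  have : Fact p.Prime := ⟨hp⟩
  let P : Sylow p K := default
  set S : Subgroup G := (P : Subgroup K).map K.subtype with hS
  have hS1 : S ≠ ⊥ := by
    intro hbot
    rw [hS, Subgroup.map_eq_bot_iff_of_injective _ K.subtype_injective] at hbot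
    have h1 := P.card_eq_multiplicity
    rw [hbot, Subgroup.card_bot] at h1
    have h2 : 1 ≤ (Nat.card K).factorization p :=
      Nat.Prime.factorization_pos_of_dvd hp Nat.card_pos.ne' hpK
    have h3 := Nat.one_lt_pow (by omega : (Nat.card K).factorization p ≠ 0) hp.one_lt
    omega
  have hSp : IsPGroup p S := P.isPGroup'.map _
  have hN : normalizer (S : Set G) ⊔ K = ⊤ := Sylow.normalizer_sup_eq_top P
  let f : normalizer (S : Set G) →* G ⧸ K := (QuotientGroup.mk' K).comp (normalizer (S : Set G)).subtype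
  have hf : Function.Surjective f := by
    intro y
    obtain ⟨x, rfl⟩ := QuotientGroup.mk'_surjective K y
    have hx : x ∈ normalizer (S : Set G) ⊔ K := by rw [hN]; trivial
    rw [Subgroup.mem_sup_of_normal_right] at hx
    obtain ⟨n, hn, k, hk, rfl⟩ := hx
    refine ⟨⟨n, hn⟩, ?_⟩
    show QuotientGroup.mk' K n = QuotientGroup.mk' K (n * k)
    rw [map_mul]
    have : QuotientGroup.mk' K k = 1 := (QuotientGroup.eq_one_iff k).2 hk
    rw [this, mul_one]
  have hker : Odd (Nat.card f.ker) := by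
    have h1 : Nat.card f.ker ∣ Nat.card K := by
      let g : f.ker →* K :=
        { toFun := fun x => ⟨((x : normalizer (S : Set G)) : G), (QuotientGroup.eq_one_iff _).1 (MonoidHom.mem_ker.1 x.2)⟩
          map_one' := rfl
          map_mul' := fun _ _ => rfl }
      exact Subgroup.card_dvd_of_injective g (fun x y hxy =>
        Subtype.ext (Subtype.ext (congrArg (Subtype.val : K → G) hxy)))
    exact hodd.of_dvd_nat h1
  obtain ⟨a', b', h1, h2, h3, h4⟩ := lift_four f hf hker ha hb hab hc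
  refine four_free hp (by rintro rfl; exact h.two hst) (h.nonAdj_two hp hst).symm
    (a := (a' : G)) (b := (b' : G)) ?_ ?_ (fun h => h3 (Subtype.ext h)) ?_ hSp hS1 a'.2 b'.2
  · rw [Subgroup.orderOf_coe]; exact h1
  · rw [Subgroup.orderOf_coe]; exact h2
  · exact congrArg Subtype.val h4

/-- two commuting non-solvable subgroups -/
theorem sixteen_dvd {H : Type*} [Group H] [Finite H] (A B : Subgroup H) (hA : ¬ Group.IsSolvable A)
    (hB : ¬ Group.IsSolvable B) (hAB : ∀ a ∈ A, ∀ b ∈ B, a * b = b * a) : 16 ∣ Nat.card H := by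
  let φ : A × B →* H := MonoidHom.noncommCoprod A.subtype B.subtype (fun a b => hAB a a.2 b b.2)
  have h1 : Nat.card φ.ker * Nat.card φ.range = Nat.card A * Nat.card B := by
    rw [← Subgroup.index_ker, Subgroup.card_mul_index, Nat.card_prod]
  -- the image of the kernel in `A`
  let π : A × B →* A := MonoidHom.fst A B
  set Z : Subgroup A := φ.ker.map π with hZ
  have hinj : Function.Injective (π.subgroupMap φ.ker) := by
    rintro ⟨⟨a, b⟩, h⟩ ⟨⟨a', b'⟩, h'⟩ hh
    have e1 : a = a' := congrArg Subtype.val hh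
    have e2 : (a : H) * b = 1 := MonoidHom.mem_ker.1 h
    have e3 : (a' : H) * b' = 1 := MonoidHom.mem_ker.1 h'
    subst e1
    have e4 : (b : H) = b' := by
      rw [← e3] at e2
      exact mul_left_cancel e2
    have e5 : b = b' := Subtype.ext e4
    subst e5
    rfl
  have h2 : Nat.card Z = Nat.card φ.ker := by
    apply le_antisymm
    · exact Nat.card_le_card_of_surjective _ (π.subgroupMap_surjective φ.ker)
    · exact Nat.card_le_card_of_injective _ hinj
  have hZc : ∀ z ∈ Z, ∀ a : A, z * a = a * z := by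
    rintro _ ⟨⟨z, b⟩, hzb, rfl⟩ a
    have e2 : (z : H) * b = 1 := MonoidHom.mem_ker.1 hzb
    have e3 : (z : H) = (b : H)⁻¹ := eq_inv_of_mul_eq_one_left e2
    apply Subtype.ext
    show (z : H) * a = a * z
    rw [e3]
    have e4 := hAB a a.2 _ (B.inv_mem b.2)
    exact e4.symm
  have hZn : Z.Normal := ⟨fun z hz g => by rw [← hZc z hz g, mul_inv_cancel_right]; exact hz⟩
  have hZs : Group.IsSolvable Z := by
    exact Group.isSolvable_of_comm fun x y => Subtype.ext (hZc x x.2 y)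
  have h4A : 4 ∣ Nat.card (A ⧸ Z) := by
    by_contra hcon
    apply hA
    have h5 : Group.IsSolvable (A ⧸ Z) := Cfsg.Agent.H495.NotFour.isSolvable_of_not_four_dvd hcon
    exact Group.isSolvable_of_ker_le_range Z.subtype (QuotientGroup.mk' Z) (by
      rw [QuotientGroup.ker_mk', Subgroup.range_subtype])
  have h4B : 4 ∣ Nat.card B := by
    by_contra hcon
    exact hB (Cfsg.Agent.H495.NotFour.isSolvable_of_not_four_dvd hcon)
  have h6 : Nat.card A = Nat.card Z * Nat.card (A ⧸ Z) := by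
    rw [← Subgroup.index_eq_card, Subgroup.card_mul_index]
  rw [h6, h2, mul_assoc] at h1
  have h7 : Nat.card φ.range = Nat.card (A ⧸ Z) * Nat.card B :=
    Nat.eq_of_mul_eq_mul_left Nat.card_pos h1
  have h8 : 4 * 4 ∣ Nat.card φ.range := by rw [h7]; exact mul_dvd_mul h4A h4B
  exact ((by norm_num : 16 ∣ 4 * 4).trans h8).trans (Subgroup.card_subgroup_dvd_card _)

/-- free action of a Sylow subgroup on the involutions of a normal subgroup -/
theorem pow_dvd_involutions {H : Type*} [Group H] [Finite H] (S : Subgroup H) [S.Normal] {p k : ℕ}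
    (hp : p.Prime) (hp2 : p ≠ 2) (hna : NonAdj H p 2) (hk : p ^ k ∣ Nat.card H) :
    p ^ k ∣ Nat.card {x : S // orderOf x = 2} := by
  have : Fact p.Prime := ⟨hp⟩
  let P : Sylow p H := default
  have h1 : p ^ k ∣ Nat.card P := P.pow_dvd_card_of_pow_dvd_card hk
  refine h1.trans ?_
  let _act : MulAction P {x : S // orderOf x = 2} :=
    { smul := fun a y => ⟨MulAut.conjNormal (a : H) y.1, by rw [MulEquiv.orderOf_eq]; exact y.2⟩
      one_smul := fun y => Subtype.ext (by
        show MulAut.conjNormal ((1 : P) : H) y.1 = y.1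
        rw [Subgroup.coe_one, map_one]; rfl)
      mul_smul := fun a b y => Subtype.ext (by
        show MulAut.conjNormal ((a * b : P) : H) y.1 = MulAut.conjNormal (a : H) (MulAut.conjNormal (b : H) y.1)
        rw [Subgroup.coe_mul, map_mul]; rfl) }
  apply card_dvd_of_free (A := P) (Y := {x : S // orderOf x = 2})
  intro a y hay
  have h2 : MulAut.conjNormal (a : H) y.1 = y.1 := congrArg Subtype.val hay
  have h3 : (a : H) * (y.1 : H) * (a : H)⁻¹ = y.1 := by
    have := congrArg Subtype.val h2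
    rwa [MulAut.conjNormal_apply] at this
  have h4 : Commute (a : H) (y.1 : H) := by
    rw [mul_inv_eq_iff_eq_mul] at h3
    exact h3
  have hy : orderOf (y.1 : H) = 2 := by rw [Subgroup.orderOf_coe]; exact y.2
  obtain ⟨l, hl⟩ := (IsPGroup.iff_orderOf.1 P.isPGroup') a
  have h5 := eq_one_of_commute hp Nat.prime_two hp2 hna ⟨l, by rw [Subgroup.orderOf_coe]; exact hl⟩
    ⟨1, by rw [hy, pow_one]⟩ h4 (by rintro h; rw [h, orderOf_one] at hy; omega)
  exact Subtype.ext h5

/-- **The simple section.** -/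
theorem Hyp.exists_simple (h : Hyp G q s t) :
    ∃ (H : Type u) (_ : Group H) (_ : Finite H) (S : Subgroup H), S.Normal ∧ IsSimpleGroup S ∧
      ¬ IsMulCommutative S ∧ 4 ∣ Nat.card S ∧ ¬ 16 ∣ Nat.card S ∧ 8 ∣ Nat.card H ∧ Nat.card H ∣ Nat.card G ∧
      Isol s H ∧ Isol t H ∧ s * t ∣ Nat.card {x : S // orderOf x = 2} ∧
      (Nat.card S = Nat.card G → Nonempty (G ≃* S)) := by
  classical
  obtain ⟨K, hKn, hKs, hKr⟩ := Cfsg.Agent.H366.AlmostSimple.exists_radical G
  have hodd := h.odd_radical K hKs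
  obtain ⟨e8, e16⟩ := h.two_eight
  have hmul : Nat.card K * Nat.card (G ⧸ K) = Nat.card G := by
    rw [← Subgroup.index_eq_card, Subgroup.card_mul_index]
  have hHd : Nat.card (G ⧸ K) ∣ Nat.card G := Dvd.intro_left _ hmul
  have hH16 : ¬ 16 ∣ Nat.card (G ⧸ K) := fun hc => e16 (hc.trans hHd)
  have hH8 : 8 ∣ Nat.card (G ⧸ K) := by
    have h1 : Nat.Coprime 8 (Nat.card K) := by
      have : (8 : ℕ) = 2 ^ 3 := by norm_num
      rw [this]
      exact Nat.Coprime.pow_left 3 (Nat.coprime_two_left.2 hodd)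
    exact h1.dvd_of_dvd_mul_left (by rw [hmul]; exact e8)
  have hnt : Nontrivial (G ⧸ K) := by
    rw [← Finite.one_lt_card_iff_nontrivial]
    exact lt_of_lt_of_le (by norm_num) (Nat.le_of_dvd Nat.card_pos hH8)
  obtain ⟨S, hSn, hSs, hSns, -⟩ := Cfsg.Agent.H366.AlmostSimple.exists_simple_normal hKr
    (fun A B hA hB hAB => hH16 (sixteen_dvd A B hA hB hAB))
  have hSna : ¬ IsMulCommutative S := by
    intro hc
    exact hSns (Group.isSolvable_of_comm fun x y => hc.is_comm.comm x y)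
  have hS4 : 4 ∣ Nat.card S := by
    by_contra hcon
    exact hSns (Cfsg.Agent.H495.NotFour.isSolvable_of_not_four_dvd hcon)
  have hSd : Nat.card S ∣ Nat.card (G ⧸ K) := S.card_subgroup_dvd_card
  have hS16 : ¬ 16 ∣ Nat.card S := fun hc => hH16 (hc.trans hSd)
  obtain ⟨a, b, ha, hb, hab, hc⟩ := exists_four hSna hS4 hS16
  have hcop : ∀ {p : ℕ}, p.Prime → p ∣ s * t → ¬ p ∣ Nat.card K := fun hp hst =>
    h.coprime_radical K hodd (a := (a : G ⧸ K)) (b := (b : G ⧸ K)) (by rw [Subgroup.orderOf_coe]; exact ha)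
      (by rw [Subgroup.orderOf_coe]; exact hb) (fun h => hab (Subtype.ext h)) (congrArg Subtype.val hc) hp hst
  refine ⟨G ⧸ K, inferInstance, inferInstance, S, hSn, hSs, hSna, hS4, hS16, hH8, hHd, h.is.quotient K,
    h.it.quotient K, ?_, ?_⟩
  · rw [Nat.dvd_iff_prime_pow_dvd_dvd]
    intro p k hp hpk
    rcases Nat.eq_zero_or_pos k with rfl | hk
    · exact one_dvd _
    have hpst : p ∣ s * t := (dvd_pow_self p hk.ne').trans hpk
    have hp2 : p ≠ 2 := by rintro rfl; exact h.two hpst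
    apply pow_dvd_involutions S hp hp2 ((h.nonAdj_two hp hpst).quotient K)
    have h1 : Nat.Coprime (p ^ k) (Nat.card K) :=
      Nat.Coprime.pow_left k ((Nat.Prime.coprime_iff_not_dvd hp).2 (hcop hp hpst))
    exact h1.dvd_of_dvd_mul_left (by rw [hmul]; exact hpk.trans h.dvd)
  · intro hcard
    have h1 : Nat.card (G ⧸ K) = Nat.card G := by
      apply le_antisymm (Nat.le_of_dvd Nat.card_pos hHd)
      rw [← hcard]
      exact Nat.le_of_dvd Nat.card_pos hSd
    have hK1 : K = ⊥ := by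
      rw [← Subgroup.card_eq_one]
      have h2 : Nat.card K * Nat.card G = 1 * Nat.card G := by rw [one_mul]; rw [h1] at hmul; exact hmul
      exact Nat.eq_of_mul_eq_mul_right Nat.card_pos h2
    have hS1 : S = ⊤ := by
      apply Subgroup.eq_top_of_card_eq
      rw [hcard, h1]
    have e1 : G ≃* G ⧸ K := (QuotientGroup.quotientBot (G := G)).symm.trans (QuotientGroup.quotientMulEquivOfEq hK1.symm)
    have e2 : S ≃* G ⧸ K := (MulEquiv.subgroupCongr hS1).trans Subgroup.topEquiv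
    exact ⟨e1.trans e2.symm⟩

end Cfsg.Agent.H362.ReeGroup
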