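import Mathlib
import Cfsg.Agent.H362.ReeCounts2
import Cfsg.Agent.H362.NseArith

/-!
# The values of the numbers of elements of given order of the small Ree groups
-/

set_option autoImplicit false
set_option linter.unusedSectionVars false

namespace Cfsg.Agent.H362.ReeVals

open Subgroup
open Cfsg.Agent.LieRecognition
open Cfsg.Agent.LieRecognition.ReeInv
open Cfsg.Agent.LieRecognition.ReeTorusB
open Cfsg.Agent.LieRecognition.ReeClass
open Cfsg.Agent.H362.TICount
open Cfsg.Agent.H362.ReeNum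
open Cfsg.Agent.H362.NseArith (Typ)

/-- the arithmetic context -/
theorem ctx {m : ℕ} (hm : 1 ≤ m) : Ctx ((3 ^ (2 * m + 1) : ℕ) : ℤ) ((3 ^ (m + 1) : ℕ) : ℤ)
    ((3 ^ (2 * m + 1) - 3 ^ (m + 1) + 1 : ℕ) : ℤ) ((3 ^ (2 * m + 1) + 3 ^ (m + 1) + 1 : ℕ) : ℤ) := by
  have hle : 3 ^ (m + 1) ≤ 3 ^ (2 * m + 1) := Nat.pow_le_pow_right (by norm_num) (by omega)
  refine ⟨?_, ?_, ?_, ?_, ?_, ?_⟩
  · have : 27 ≤ 3 ^ (2 * m + 1) := by
      calc 27 = 3 ^ 3 := by norm_num
        _ ≤ 3 ^ (2 * m + 1) := Nat.pow_le_pow_right (by norm_num) (by omega)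
    exact_mod_cast this
  · positivity
  · have : 3 ∣ 3 ^ (2 * m + 1) := dvd_pow_self 3 (by omega)
    exact_mod_cast this
  · push_cast
    rw [← pow_mul]
    ring
  · rw [Nat.cast_add, Nat.cast_sub hle]; push_cast; ring
  · push_cast; ring

theorem odd_q (m : ℕ) : Odd ((3 ^ (2 * m + 1) : ℕ) : ℤ) := by
  have : Odd (3 ^ (2 * m + 1)) := Odd.pow (by decide)
  exact_mod_cast this

theorem split_two {d h : ℕ} (hd : d ∣ 2 * h) : d ∣ h ∨ ∃ k, k ∣ h ∧ d = 2 * k := by
  rcases Nat.even_or_odd' d with ⟨k, rfl | rfl⟩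
  · right
    exact ⟨k, Nat.dvd_of_mul_dvd_mul_left (by norm_num) hd, rfl⟩
  · left
    have : Nat.Coprime (2 * k + 1) 2 := by
      rw [Nat.coprime_two_right]
      exact ⟨k, rfl⟩
    exact this.dvd_of_dvd_mul_left hd

theorem totient_even' {k : ℕ} (hk : Odd k) (hk1 : k ≠ 1) : ∃ j : ℕ, k.totient = 2 * j := by
  have h3 : 2 < k := by
    rcases hk with ⟨l, rfl⟩
    omega
  obtain ⟨j, hj⟩ := Nat.totient_even h3
  exact ⟨j, by omega⟩

section main

variable {K : Type*} [Field K] [Fintype K] {G : Type*} [Group G] [Finite G] {m : ℕ}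
  {U : K → K → K → G} {h : Kˣ → G} {n : G}

/-- the order over the integers -/
theorem card_int (D : ReeAbs.Data m U h n) (hK : Fintype.card K = 3 ^ (2 * m + 1)) :
    (Nat.card G : ℤ) = vG ((3 ^ (2 * m + 1) : ℕ) : ℤ) := by
  have Dl := ReeSetup.local_of_data D hK
  have h1 : 1 ≤ 3 ^ (2 * m + 1) := Nat.one_le_pow _ _ (by norm_num)
  rw [Dl.card_G]
  unfold vG
  rw [Nat.cast_mul, Nat.cast_mul, Nat.cast_sub h1, Nat.cast_add]
  push_cast
  ring

theorem main (D : ReeAbs.Data m U h n) (hm : 1 ≤ m) (hK : Fintype.card K = 3 ^ (2 * m + 1))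
    (hG : commutator G = ⊤)
    (hcyc : ∀ x : G, x ≠ 1 → orderOf x ∣ (3 ^ (2 * m + 1)) ^ 2 - 3 ^ (2 * m + 1) + 1 →
      IsCyclic (centralizer {x}) ∧
        Nat.card (normalizer (centralizer {x} : Set G)) ∣ 6 * Nat.card (centralizer {x})) :
    (∀ d : ℕ, Nat.card {x : G // orderOf x = d} ≠ 0 →
      Typ ((3 ^ (2 * m + 1) : ℕ) : ℤ) ((3 ^ (2 * m + 1) - 3 ^ (m + 1) + 1 : ℕ) : ℤ)
        ((3 ^ (2 * m + 1) + 3 ^ (m + 1) + 1 : ℕ) : ℤ) (Nat.card {x : G // orderOf x = d} : ℤ)) ∧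
    (Nat.card {x : G // orderOf x = 2} : ℤ) = vb ((3 ^ (2 * m + 1) : ℕ) : ℤ) ∧
    (Nat.card {x : G // orderOf x = 3} : ℤ) = vc ((3 ^ (2 * m + 1) : ℕ) : ℤ) ∧
    (Nat.card {x : G // orderOf x = 9} : ℤ) = vd ((3 ^ (2 * m + 1) : ℕ) : ℤ) := by
  have : CharP K 3 := ReeAbs.charP_three hK
  have Dl := ReeSetup.local_of_data D hK
  obtain ⟨f, t₀, S⟩ := ReeSetup.exists_setup D hK hG Dl
  have ar := ReeClass.arith m
  obtain ⟨A1, A2, c1, c2, k1, k2, n1, n2, z1, z2, hcov⟩ := ReeSetup.exists_tori D hm hK hG hcyc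
  have hord := ReeSetup.orders D hm hK hG hcyc
  have X := ctx hm
  have hGi := card_int D hK
  have hoq := odd_q m
  have g2 := ReeCounts.count_two S
  have g3 := ReeCounts2.count_three D hK S
  have g9 := ReeCounts2.count_nine D hK S
  have g6 := ReeCounts2.count_six D hK S
  have gA := fun {k : ℕ} => ReeCounts2.count_A D hK S (k := k)
  have gH := fun {k : ℕ} => ReeCounts2.count_H D hK S (k := k)
  have gSA := fun {k : ℕ} => ReeCounts.count_SA Dl ar S (k := k)
  have gEA := fun {k : ℕ} => ReeCounts.count_EA Dl ar S (k := k)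
  have h27 : 27 ≤ 3 ^ (2 * m + 1) := by exact_mod_cast X.q27
  have hle : 3 ^ (m + 1) ≤ 3 ^ (2 * m + 1) := Nat.pow_le_pow_right (by norm_num) (by omega)
  have hh1 := ReeCounts.odd_half ar
  have hh2 := ReeCounts.odd_quarter ar
  have hq8 := ar.q8
  have hsodd := NseArith.odd_s X hoq
  have htodd := NseArith.odd_t X hoq
  have hst := ReeNum.st X
  have hcop : Nat.Coprime (3 ^ (2 * m + 1) - 3 ^ (m + 1) + 1) (3 ^ (2 * m + 1) + 3 ^ (m + 1) + 1) := by
    apply Nat.coprime_of_dvd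
    intro p hp h1 h2
    exact NseArith.prime_s_t X hoq (Nat.prime_iff_prime_int.1 hp) (by exact_mod_cast h1) (by exact_mod_cast h2)
  have hsQ : (3 ^ (2 * m + 1) - 3 ^ (m + 1) + 1) * (3 ^ (2 * m + 1) + 3 ^ (m + 1) + 1) =
      (3 ^ (2 * m + 1)) ^ 2 - 3 ^ (2 * m + 1) + 1 := by
    have hle2 : 3 ^ (2 * m + 1) ≤ (3 ^ (2 * m + 1)) ^ 2 := Nat.le_self_pow two_ne_zero _
    have : (((3 ^ (2 * m + 1) - 3 ^ (m + 1) + 1) * (3 ^ (2 * m + 1) + 3 ^ (m + 1) + 1) : ℕ) : ℤ) =
      (((3 ^ (2 * m + 1)) ^ 2 - 3 ^ (2 * m + 1) + 1 : ℕ) : ℤ) := by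
      rw [Nat.cast_mul, hst, Nat.cast_add ((3 ^ (2 * m + 1)) ^ 2 - 3 ^ (2 * m + 1)), Nat.cast_sub hle2]
      push_cast
      ring
    exact_mod_cast this
  generalize 3 ^ (2 * m + 1) - 3 ^ (m + 1) + 1 = s at *
  generalize 3 ^ (2 * m + 1) + 3 ^ (m + 1) + 1 = t at *
  -- tori
  have gs : ∀ {k : ℕ}, k ≠ 1 → k ∣ s → Nat.card {x : G // orderOf x = k} * (6 * s) = Nat.card G * k.totient := by
    intro k hk hks
    rw [← n1]
    apply ReeCounts2.count_torus z1 hk (by rw [k1]; exact hks)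
    intro x hx
    have hx1 : x ≠ 1 := by
      rintro rfl
      rw [orderOf_one] at hx
      exact hk hx.symm
    obtain ⟨g, hg | hg⟩ := hcov x hx1 (by rw [← hsQ, hx]; exact hks.mul_right t)
    · exact ⟨g⁻¹, by rwa [inv_inv]⟩
    · exfalso
      have h1 : orderOf x ∣ t := by
        have h2 := orderOf_dvd_natCard (⟨_, hg⟩ : A2)
        rw [Subgroup.orderOf_mk, TICount.orderOf_conj', k2] at h2
        exact h2
      rw [hx] at h1
      exact hk (Nat.eq_one_of_dvd_coprimes hcop hks h1)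
  have gt : ∀ {k : ℕ}, k ≠ 1 → k ∣ t → Nat.card {x : G // orderOf x = k} * (6 * t) = Nat.card G * k.totient := by
    intro k hk hks
    rw [← n2]
    apply ReeCounts2.count_torus z2 hk (by rw [k2]; exact hks)
    intro x hx
    have hx1 : x ≠ 1 := by
      rintro rfl
      rw [orderOf_one] at hx
      exact hk hx.symm
    obtain ⟨g, hg | hg⟩ := hcov x hx1 (by rw [← hsQ, hx]; exact hks.mul_left s)
    · exfalso
      have h1 : orderOf x ∣ s := by
        have h2 := orderOf_dvd_natCard (⟨_, hg⟩ : A1)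
        rw [Subgroup.orderOf_mk, TICount.orderOf_conj', k1] at h2
        exact h2
      rw [hx] at h1
      exact hk (Nat.eq_one_of_dvd_coprimes hcop h1 hks)
    · exact ⟨g⁻¹, by rwa [inv_inv]⟩
  have hq1 : 1 ≤ 3 ^ (2 * m + 1) := by omega
  have hq2 : 1 ≤ (3 ^ (2 * m + 1)) ^ 2 := Nat.one_le_pow _ _ (by omega)
  generalize 3 ^ (2 * m + 1) = q at *
  generalize 3 ^ (m + 1) = r at *
  -- over the integers
  have i2 : (Nat.card {x : G // orderOf x = 2} : ℤ) = vb (q : ℤ) := by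
    have h1 : (Nat.card {x : G // orderOf x = 2} : ℤ) * ((q : ℤ) * ((q : ℤ) ^ 2 - 1)) = vG q := by
      rw [← hGi, ← g2]
      push_cast [Nat.cast_sub hq2]
      ring
    have h2 : (q : ℤ) * ((q : ℤ) ^ 2 - 1) ≠ 0 := by
      have : (27 : ℤ) ≤ q := by exact_mod_cast h27
      apply mul_ne_zero
      · omega
      · nlinarith
    apply mul_right_cancel₀ h2
    rw [h1]
    unfold vG vb
    ring
  have i3 : (Nat.card {x : G // orderOf x = 3} : ℤ) = vc (q : ℤ) := by
    rw [g3]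
    unfold vc
    push_cast [Nat.cast_sub hq2]
    ring
  have i9 : (Nat.card {x : G // orderOf x = 9} : ℤ) = vd (q : ℤ) := by
    rw [g9]
    unfold vd
    push_cast [Nat.cast_sub hq1]
    ring
  have i6 : (Nat.card {x : G // orderOf x = 6} : ℤ) = vd (q : ℤ) := by
    rw [g6]
    unfold vd
    push_cast [Nat.cast_sub hq1]
    ring
  have i1 : (Nat.card {x : G // orderOf x = 1} : ℤ) = 1 := by
    have := Cfsg.Agent.H418.Nse.co_one G
    unfold Cfsg.Agent.H418.Nse.co at this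
    rw [this]
    norm_num
  have Z27 : (27 : ℤ) ≤ q := by exact_mod_cast h27
  refine ⟨?_, i2, i3, i9⟩
  intro d hd0
  have hex : ∃ g : G, orderOf g = d := by
    by_contra hcon
    push Not at hcon
    apply hd0
    have : IsEmpty {x : G // orderOf x = d} := ⟨fun x => hcon x.1 x.2⟩
    exact Nat.card_of_isEmpty
  have hd := (hord d).1 hex
  -- E type
  have tE : ∀ k : ℕ, k ≠ 1 → k ∣ (q - 1) / 2 → ∀ c : ℕ, c * (2 * (q - 1)) = Nat.card G * k.totient →
      Typ q s t c := by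
    intro k hk1 hk c hc
    obtain ⟨j, hj⟩ := totient_even' (hh1.of_dvd_nat hk) hk1
    right; right; right; right; left
    refine ⟨j, ?_⟩
    rw [hj] at hc
    have h1 : (c : ℤ) * (2 * ((q : ℤ) - 1)) = vG q * (2 * j) := by
      rw [← hGi]
      have := congrArg (Nat.cast : ℕ → ℤ) hc
      push_cast [Nat.cast_sub hq1] at this
      linarith
    have h2 : (2 : ℤ) * ((q : ℤ) - 1) ≠ 0 := by omega
    apply mul_right_cancel₀ h2
    rw [h1]
    unfold vG vE
    ring
  have tF : ∀ k : ℕ, k ≠ 1 → k ∣ (q + 1) / 4 → ∀ c l : ℕ, c * (6 * (q + 1)) = Nat.card G * (l * k.totient) →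
      Typ q s t c := by
    intro k hk1 hk c l hc
    obtain ⟨j, hj⟩ := totient_even' (hh2.of_dvd_nat hk) hk1
    right; right; right; right; right; left
    refine ⟨l * j, ?_⟩
    rw [hj] at hc
    have h1 : (c : ℤ) * (6 * ((q : ℤ) + 1)) = vG q * (l * (2 * j)) := by
      rw [← hGi]
      have := congrArg (Nat.cast : ℕ → ℤ) hc
      push_cast at this
      linarith
    have h2 : (2 : ℤ) * ((q : ℤ) + 1) ≠ 0 := by omega
    apply mul_right_cancel₀ h2
    have h3 : 3 * (c : ℤ) * (2 * ((q : ℤ) + 1)) = (c : ℤ) * (6 * ((q : ℤ) + 1)) := by ring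
    rw [h3, h1]
    unfold vG vF
    push_cast
    ring
  rcases hd with h | h | h | h | h | h
  · have h7 := Nat.le_of_dvd (by norm_num) h
    interval_cases d
    · exact absurd h (by norm_num)
    · exact Or.inl i1
    · exact Or.inr (Or.inl i2)
    · exact Or.inr (Or.inr (Or.inl i3))
    · exact absurd h (by norm_num)
    · exact absurd h (by norm_num)
    · exact Or.inr (Or.inr (Or.inr (Or.inl i6)))
  · have h7 := Nat.le_of_dvd (by norm_num) h
    interval_cases d
    · exact absurd h (by norm_num)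
    · exact Or.inl i1
    · exact absurd h (by norm_num)
    · exact Or.inr (Or.inr (Or.inl i3))
    · exact absurd h (by norm_num)
    · exact absurd h (by norm_num)
    · exact absurd h (by norm_num)
    · exact absurd h (by norm_num)
    · exact absurd h (by norm_num)
    · exact Or.inr (Or.inr (Or.inr (Or.inl i9)))
  · have h1 : q - 1 = 2 * ((q - 1) / 2) := by omega
    rw [h1] at h
    rcases split_two h with h2 | ⟨k, hk, rfl⟩
    · by_cases hd1 : d = 1
      · subst hd1; exact Or.inl i1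
      · exact tE d hd1 h2 _ (gA hd1 h2)
    · by_cases hk1 : k = 1
      · subst hk1; exact Or.inr (Or.inl i2)
      · exact tE k hk1 hk _ (gH hk1 hk)
  · have h1 : (q + 1) / 2 = 2 * ((q + 1) / 4) := by omega
    rw [h1] at h
    rcases split_two h with h2 | ⟨k, hk, rfl⟩
    · by_cases hd1 : d = 1
      · subst hd1; exact Or.inl i1
      · exact tF d hd1 h2 _ 1 (by rw [one_mul]; exact gSA hd1 h2)
    · by_cases hk1 : k = 1
      · subst hk1; exact Or.inr (Or.inl i2)
      · exact tF k hk1 hk _ 3 (gEA hk1 hk)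
  · by_cases hd1 : d = 1
    · subst hd1; exact Or.inl i1
    · right; right; right; right; right; right; left
      have hso : Odd s := by exact_mod_cast hsodd
      obtain ⟨j, hj⟩ := totient_even' (hso.of_dvd_nat h) hd1
      refine ⟨j, ?_⟩
      have hc := gs hd1 h
      rw [hj] at hc
      have h1 : (Nat.card {x : G // orderOf x = d} : ℤ) * (6 * (s : ℤ)) = vG q * (2 * j) := by
        rw [← hGi]
        have := congrArg (Nat.cast : ℕ → ℤ) hc
        push_cast at this
        linarith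
      have hs0 : (s : ℤ) ≠ 0 := (s_pos X).ne'
      have h2 : (2 : ℤ) * (s : ℤ) ≠ 0 := mul_ne_zero two_ne_zero hs0
      apply mul_right_cancel₀ h2
      have h3 : 3 * (Nat.card {x : G // orderOf x = d} : ℤ) * (2 * (s : ℤ)) =
        (Nat.card {x : G // orderOf x = d} : ℤ) * (6 * (s : ℤ)) := by ring
      rw [h3, h1]
      unfold vG vH
      linear_combination (-2 * (j : ℤ) * (q : ℤ) ^ 3 * ((q : ℤ) ^ 2 - 1)) * hst
  · by_cases hd1 : d = 1
    · subst hd1; exact Or.inl i1
    · right; right; right; right; right; right; right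
      have hto : Odd t := by exact_mod_cast htodd
      obtain ⟨j, hj⟩ := totient_even' (hto.of_dvd_nat h) hd1
      refine ⟨j, ?_⟩
      have hc := gt hd1 h
      rw [hj] at hc
      have h1 : (Nat.card {x : G // orderOf x = d} : ℤ) * (6 * (t : ℤ)) = vG q * (2 * j) := by
        rw [← hGi]
        have := congrArg (Nat.cast : ℕ → ℤ) hc
        push_cast at this
        linarith
      have hs0 : (t : ℤ) ≠ 0 := (t_pos X).ne'
      have h2 : (2 : ℤ) * (t : ℤ) ≠ 0 := mul_ne_zero two_ne_zero hs0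
      apply mul_right_cancel₀ h2
      have h3 : 3 * (Nat.card {x : G // orderOf x = d} : ℤ) * (2 * (t : ℤ)) =
        (Nat.card {x : G // orderOf x = d} : ℤ) * (6 * (t : ℤ)) := by ring
      rw [h3, h1]
      unfold vG vH
      linear_combination (-2 * (j : ℤ) * (q : ℤ) ^ 3 * ((q : ℤ) ^ 2 - 1)) * hst

end main

end Cfsg.Agent.H362.ReeVals
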