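import Mathlib
import Cfsg.Agent.H362.ReeVals
import Cfsg.Agent.H362.ReeGroup
import Cfsg.Agent.H362.ReeElim
import Cfsg.Agent.H362.ReeField
import Cfsg.Agent.LieRecognition.ReeFinal
import Cfsg.Agent.LieRecognition.ReeTorusTw
import Cfsg.Agent.S1116

/-!
# The small Ree groups are determined by the order and the numbers of elements of given order
-/

set_option autoImplicit false
set_option linter.unusedSectionVars false

namespace Cfsg.Agent.H362.ReeMain

open Subgroup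
open Cfsg
open Cfsg.Agent.H362.ReeNum
open Cfsg.Agent.H362.NseArith (Typ)
open Cfsg.Agent.H362.IsoGroup
open Cfsg.Agent.H418.Nse

universe u

/-- the values for `²G₂(q)` -/
theorem ree_vals {K : Type*} [Field K] [Fintype K] {m : ℕ} (hm : 1 ≤ m) (hK : Fintype.card K = 3 ^ (2 * m + 1)) :
    Finite ↥(Cfsg.Lie.twistedG2 K (3 ^ m)) ∧
    (Nat.card ↥(Cfsg.Lie.twistedG2 K (3 ^ m)) : ℤ) = vG ((3 ^ (2 * m + 1) : ℕ) : ℤ) ∧
    (∀ d : ℕ, Nat.card {x : ↥(Cfsg.Lie.twistedG2 K (3 ^ m)) // orderOf x = d} ≠ 0 →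
      Typ ((3 ^ (2 * m + 1) : ℕ) : ℤ) ((3 ^ (2 * m + 1) - 3 ^ (m + 1) + 1 : ℕ) : ℤ)
        ((3 ^ (2 * m + 1) + 3 ^ (m + 1) + 1 : ℕ) : ℤ)
        (Nat.card {x : ↥(Cfsg.Lie.twistedG2 K (3 ^ m)) // orderOf x = d} : ℤ)) ∧
    (Nat.card {x : ↥(Cfsg.Lie.twistedG2 K (3 ^ m)) // orderOf x = 2} : ℤ) = vb ((3 ^ (2 * m + 1) : ℕ) : ℤ) ∧
    (Nat.card {x : ↥(Cfsg.Lie.twistedG2 K (3 ^ m)) // orderOf x = 3} : ℤ) = vc ((3 ^ (2 * m + 1) : ℕ) : ℤ) ∧
    (Nat.card {x : ↥(Cfsg.Lie.twistedG2 K (3 ^ m)) // orderOf x = 9} : ℤ) = vd ((3 ^ (2 * m + 1) : ℕ) : ℤ) := by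
  have hfin : Finite ↥(Cfsg.Lie.twistedG2 K (3 ^ m)) := by
    apply Nat.finite_of_card_ne_zero
    rw [Cfsg.Agent.LieRecognition.ReeFinal.card hK]
    have h1 : 0 < 3 ^ (2 * m + 1) := by positivity
    have h2 : 0 < 3 ^ (2 * m + 1) - 1 := by
      have : 3 ^ 1 ≤ 3 ^ (2 * m + 1) := Nat.pow_le_pow_right (by norm_num) (by omega)
      omega
    positivity
  exact ⟨hfin, ReeVals.card_int (Cfsg.Agent.LieRecognition.ReeFinal.data hK) hK,
    ReeVals.main (Cfsg.Agent.LieRecognition.ReeFinal.data hK) hm hK (Cfsg.Agent.S1116.result hK hm)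
      (fun x hx hx1 => Cfsg.Agent.LieRecognition.ReeTorusTw.isCyclic_centralizer hK hx hx1)⟩

/-- numerical facts -/
theorem nums {m : ℕ} (hm : 1 ≤ m) {q s t : ℕ} (hq : q = 3 ^ (2 * m + 1))
    (hs : s = 3 ^ (2 * m + 1) - 3 ^ (m + 1) + 1) (ht : t = 3 ^ (2 * m + 1) + 3 ^ (m + 1) + 1) :
    q % 8 = 3 ∧ s * t + q = q ^ 2 + 1 ∧ 1 < s ∧ s < t ∧ Nat.Coprime s t ∧ ¬ 2 ∣ s * t ∧ ¬ 3 ∣ s * t ∧
      703 ≤ s * t ∧ (m = 1 ∨ 58807 ≤ s * t) ∧ (2 * s ≤ t + 1 → m = 1) := by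
  have X := ReeVals.ctx hm
  have hoq := ReeVals.odd_q m
  rw [← hs, ← ht, ← hq] at X
  rw [← hq] at hoq
  have hst := ReeNum.st X
  have h27 : 27 ≤ q := by exact_mod_cast X.q27
  have hle : 3 ^ (m + 1) ≤ 3 ^ (2 * m + 1) := Nat.pow_le_pow_right (by norm_num) (by omega)
  have hst' : s * t + q = q ^ 2 + 1 := by
    have : ((s * t + q : ℕ) : ℤ) = ((q ^ 2 + 1 : ℕ) : ℤ) := by
      push_cast
      rw [hst]; ring
    exact_mod_cast this
  have hq243 : m ≠ 1 → 243 ≤ q := by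
    intro h
    rw [hq]
    calc 243 = 3 ^ 5 := by norm_num
      _ ≤ 3 ^ (2 * m + 1) := Nat.pow_le_pow_right (by norm_num) (by omega)
  refine ⟨?_, hst', ?_, ?_, ?_, ?_, ?_, ?_, ?_, ?_⟩
  · rw [hq, pow_add, pow_mul, pow_one, Nat.mul_mod, Nat.pow_mod]
    norm_num
  · have h1 : 3 ^ (m + 1) < 3 ^ (2 * m + 1) := Nat.pow_lt_pow_right (by norm_num) (by omega)
    omega
  · have h1 : 0 < 3 ^ (m + 1) := by positivity
    omega
  · apply Nat.coprime_of_dvd
    intro p hp h1 h2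
    exact NseArith.prime_s_t X hoq (Nat.prime_iff_prime_int.1 hp) (by exact_mod_cast h1) (by exact_mod_cast h2)
  · intro h
    have := NseArith.prime_s X hoq (p := (2 : ℕ)) (Nat.prime_iff_prime_int.1 Nat.prime_two) (by exact_mod_cast h)
    exact this.1 (by norm_num)
  · intro h
    have := NseArith.prime_s X hoq (p := (3 : ℕ)) (Nat.prime_iff_prime_int.1 Nat.prime_three) (by exact_mod_cast h)
    exact this.2.1 (by norm_num)
  · nlinarith
  · by_cases h1 : m = 1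
    · exact Or.inl h1
    · right
      have := hq243 h1
      nlinarith
  · intro h
    by_contra h1
    have h243 := hq243 h1
    have hrr : (3 ^ (m + 1)) ^ 2 = 3 * q := by
      rw [hq, ← pow_mul]; ring
    have h2 : q ≤ 3 * 3 ^ (m + 1) := by omega
    nlinarith

/-- elimination of the orders 2520, 175560 -/
theorem not_dvd_small {m : ℕ} (hm : 1 ≤ m) {q s t : ℕ} (hq : q = 3 ^ (2 * m + 1))
    (hs : s = 3 ^ (2 * m + 1) - 3 ^ (m + 1) + 1) (ht : t = 3 ^ (2 * m + 1) + 3 ^ (m + 1) + 1) {N : ℕ}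
    (hN : N = 2520 ∨ N = 175560) : ¬ s * t ∣ N := by
  obtain ⟨-, hst, -, -, -, h2, -, h703, h58, -⟩ := nums hm hq hs ht
  intro hd
  have hN0 : 0 < N := by omega
  have hle := Nat.le_of_dvd hN0 hd
  rcases h58 with h1 | h58
  · subst h1
    have h3 : s * t = 703 := by
      rw [hs, ht]; norm_num
    rw [h3] at hd
    rcases hN with rfl | rfl <;> revert hd <;> norm_num
  · rcases hN with rfl | rfl
    · omega
    · obtain ⟨k, hk⟩ := hd
      have hk3 : k < 3 := by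
        by_contra hge
        have : s * t * 3 ≤ s * t * k := Nat.mul_le_mul_left _ (by omega)
        omega
      apply h2
      interval_cases k
      · omega
      · omega
      · omega

/-- **The main theorem.** -/
theorem main {K : Type*} [Field K] [Fintype K] {m : ℕ} (hm : 1 ≤ m)
    (hK : Fintype.card K = 3 ^ (2 * m + 1)) {G : Type u} [Group G] [Finite G]
    (hcard : Nat.card G = Nat.card ↥(Cfsg.Lie.twistedG2 K (3 ^ m)))
    (hnse : {c : ℕ | 0 < c ∧ ∃ n : ℕ, c = Nat.card {g : G // orderOf g = n}} =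
      {c : ℕ | 0 < c ∧ ∃ n : ℕ, c = Nat.card {g : ↥(Cfsg.Lie.twistedG2 K (3 ^ m)) // orderOf g = n}}) :
    Nonempty (G ≃* ↥(Cfsg.Lie.twistedG2 K (3 ^ m))) := by
  classical
  obtain ⟨hfin, hRG, hRT, hR2, hR3, hR9⟩ := ree_vals hm hK
  obtain ⟨q, hq⟩ : ∃ q, q = 3 ^ (2 * m + 1) := ⟨_, rfl⟩
  obtain ⟨s, hs⟩ : ∃ s, s = 3 ^ (2 * m + 1) - 3 ^ (m + 1) + 1 := ⟨_, rfl⟩
  obtain ⟨t, ht⟩ : ∃ t, t = 3 ^ (2 * m + 1) + 3 ^ (m + 1) + 1 := ⟨_, rfl⟩
  obtain ⟨n8, nst, ns1, nlt, ncop, n2, n3, n703, n58, n27⟩ := nums hm hq hs ht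
  have X := ReeVals.ctx hm
  have hoq := ReeVals.odd_q m
  rw [← hs, ← ht, ← hq] at X hRT
  rw [← hq] at hoq hRG hR2 hR3 hR9
  obtain ⟨l1, l2, l3⟩ := NseArith.vb_lt X
  have h27 : 27 ≤ q := by exact_mod_cast X.q27
  -- transfer
  have hT : ∀ n, co G n ≠ 0 → Typ q s t (co G n) := by
    intro n hn
    have h1 : co G n ∈ {c : ℕ | 0 < c ∧ ∃ n : ℕ, c = Nat.card {g : G // orderOf g = n}} :=
      ⟨Nat.pos_of_ne_zero hn, n, rfl⟩
    rw [hnse] at h1
    obtain ⟨h2, d, h3⟩ := h1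
    have h4 := hRT d (by rw [← h3]; exact hn)
    rw [← h3] at h4
    exact h4
  have hback : ∀ d, Nat.card {x : ↥(Cfsg.Lie.twistedG2 K (3 ^ m)) // orderOf x = d} ≠ 0 →
      ∃ n, co G n = Nat.card {x : ↥(Cfsg.Lie.twistedG2 K (3 ^ m)) // orderOf x = d} := by
    intro d hd
    have h1 : Nat.card {x : ↥(Cfsg.Lie.twistedG2 K (3 ^ m)) // orderOf x = d} ∈
        {c : ℕ | 0 < c ∧ ∃ n : ℕ, c = Nat.card {g : ↥(Cfsg.Lie.twistedG2 K (3 ^ m)) // orderOf g = n}} :=
      ⟨Nat.pos_of_ne_zero hd, d, rfl⟩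
    rw [← hnse] at h1
    obtain ⟨h2, n, h3⟩ := h1
    exact ⟨n, h3.symm⟩
  have hval : ∀ (d : ℕ) (v : ℤ), 0 < v → (Nat.card {x : ↥(Cfsg.Lie.twistedG2 K (3 ^ m)) // orderOf x = d} : ℤ) = v →
      ∃ n, (co G n : ℤ) = v := by
    intro d v hv h1
    obtain ⟨n, hn⟩ := hback d (by intro h; rw [h] at h1; push_cast at h1; omega)
    exact ⟨n, by rw [hn, h1]⟩
  have hGi : (Nat.card G : ℤ) = vG (q : ℤ) := by rw [hcard]; exact hRG
  obtain ⟨-, iso1, iso2⟩ := NseArith.isolated X hoq hGi hT (hval 2 _ (by omega) hR2) (hval 3 _ (by omega) hR3)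
    (hval 9 _ (by omega) hR9)
  have hq1 : 1 ≤ q := by omega
  have hGn : Nat.card G = q ^ 3 * (q ^ 3 + 1) * (q - 1) := by
    have : (Nat.card G : ℤ) = ((q ^ 3 * (q ^ 3 + 1) * (q - 1) : ℕ) : ℤ) := by
      rw [hGi]
      unfold vG
      push_cast [Nat.cast_sub hq1]
      ring
    exact_mod_cast this
  have hcopos : ∀ x : G, co G (orderOf x) ≠ 0 := by
    intro x h
    unfold co at h
    have : Nonempty {g : G // orderOf g = orderOf x} := ⟨⟨x, rfl⟩⟩
    exact Nat.card_pos.ne' h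
  have hyp : ReeGroup.Hyp G q s t :=
    { card := hGn, q8 := n8, st := nst, s1 := ns1, t1 := by omega, cop := ncop, two := n2, three := n3
      is := by
        intro x p p' hp hp' h1 h2 h3 h4
        exact hcopos x (iso1 p p' _ hp hp' (by exact_mod_cast h1) (fun h => h2 (by exact_mod_cast h)) h3 h4)
      it := by
        intro x p p' hp hp' h1 h2 h3 h4
        exact hcopos x (iso2 p p' _ hp hp' (by exact_mod_cast h1) (fun h => h2 (by exact_mod_cast h)) h3 h4) }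
  obtain ⟨H, iH, fH, S, hSn, hSs, hSna, hS4, hS16, hH8, hHd, hHs, hHt, hinv, hiso⟩ := hyp.exists_simple
  have hS2 : 2 ∣ Nat.card S := (by norm_num : 2 ∣ 4).trans hS4
  have hSH : Nat.card S ∣ Nat.card H := S.card_subgroup_dvd_card
  rcases ReeElim.classify hSna hS4 hS16 with h | ⟨F, iF, iF', hodd, ⟨e⟩⟩ | ⟨h8, h⟩ | ⟨F, iF, iF', m₀, hm₀, hF, ⟨e⟩⟩
  · -- small
    exfalso
    have h1 : Nat.card {x : S // orderOf x = 2} ≤ Nat.card S := Nat.card_le_card_of_injective _ Subtype.val_injective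
    have h2 : 0 < Nat.card {x : S // orderOf x = 2} := by
      have : Fact (Nat.Prime 2) := ⟨Nat.prime_two⟩
      obtain ⟨a, ha⟩ := exists_prime_orderOf_dvd_card' 2 hS2
      have : Nonempty {x : S // orderOf x = 2} := ⟨⟨a, ha⟩⟩
      exact Nat.card_pos
    have h3 := Nat.le_of_dvd h2 hinv
    omega
  · -- PSL(2, q₀)
    exfalso
    have hconj : ∀ x y : S, orderOf x = 2 → orderOf y = 2 → IsConj x y := by
      intro x y hx hy
      have h1 := ClassicalGeometry.SLTwoFour.psl_isConj hodd (e x) (e y) (by rw [MulEquiv.orderOf_eq, hx])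
        (by rw [MulEquiv.orderOf_eq, hy])
      have h2 := MonoidHom.map_isConj e.symm.toMonoidHom h1
      simpa using h2
    have hd : s * t ∣ Nat.card S := hinv.trans (ReeElim.involutions_dvd hconj hS2)
    obtain ⟨k1, k2⟩ := ReeElim.psl_two hodd e (hHs.subgroup S) (hHt.subgroup S) ncop n2 ns1 nlt hd (by
      intro p k hp hpst hpk
      rcases Nat.eq_zero_or_pos k with rfl | hk
      · exact one_dvd _
      have h1 : p ^ k ∣ Nat.card G := hpk.trans (hSH.trans hHd)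
      rw [hyp.card'] at h1
      have hpZ : Prime (p : ℤ) := Nat.prime_iff_prime_int.1 hp
      obtain ⟨z2, z3, zq, zq1, zq2⟩ := NseArith.prime_s X hoq hpZ (by exact_mod_cast hpst)
      have c1 : Nat.Coprime (p ^ k) (q ^ 3) := by
        apply Nat.Coprime.pow
        exact (Nat.Prime.coprime_iff_not_dvd hp).2 (fun h => zq (by exact_mod_cast h))
      have c2 : Nat.Coprime (p ^ k) (q + 1) := by
        apply Nat.Coprime.pow_left
        exact (Nat.Prime.coprime_iff_not_dvd hp).2 (fun h => zq2 (by exact_mod_cast h))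
      have c3 : Nat.Coprime (p ^ k) (q - 1) := by
        apply Nat.Coprime.pow_left
        refine (Nat.Prime.coprime_iff_not_dvd hp).2 (fun h => zq1 ?_)
        have : ((q - 1 : ℕ) : ℤ) = (q : ℤ) - 1 := by push_cast [Nat.cast_sub hq1]; ring
        rw [← this]
        exact_mod_cast h
      exact (Nat.Coprime.mul_right c1 c2).dvd_of_dvd_mul_left (c3.dvd_of_dvd_mul_right h1))
    have hm1 := n27 k2
    subst hm1
    have hs19 : s = 19 := by rw [hs]; norm_num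
    have ht37 : t = 37 := by rw [ht]; norm_num
    have hc2 := SmallSimple.PSLTwoPart.card_psl_two_odd hodd
    rw [← Nat.card_congr e.toEquiv, k1, ht37] at hc2
    have hS : Nat.card S = 25308 := by omega
    have hna : H363.Frat.NonAdj H 19 2 := hHs.nonAdj (by norm_num) Nat.prime_two (by rw [hs19]) (by rw [hs19]; norm_num)
    exact ReeElim.kill_37 S hS hH8 hna
  · exfalso
    have hconj := SmallSimple.SylowEight.isConj_of_card_sylow_eight hSna h8 hS16
    have hd : s * t ∣ Nat.card S := hinv.trans (ReeElim.involutions_dvd hconj hS2)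
    exact not_dvd_small hm hq hs ht h hd
  · -- Ree groups
    obtain ⟨hfin₀, hc₀, -, hi₀, -, -⟩ := ree_vals hm₀ hF
    obtain ⟨q₀, hq₀⟩ : ∃ q₀, q₀ = 3 ^ (2 * m₀ + 1) := ⟨_, rfl⟩
    rw [← hq₀] at hc₀ hi₀
    have hq₀1 : 1 ≤ q₀ := by rw [hq₀]; exact Nat.one_le_pow _ _ (by norm_num)
    have hcS : (Nat.card S : ℤ) = vG (q₀ : ℤ) := by rw [Nat.card_congr e.toEquiv]; exact hc₀
    have hiS : (Nat.card {x : S // orderOf x = 2} : ℤ) = vb (q₀ : ℤ) := by
      rw [← hi₀]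
      have : Nat.card {x : S // orderOf x = 2} =
          Nat.card {x : ↥(Cfsg.Lie.twistedG2 F (3 ^ m₀)) // orderOf x = 2} := by
        apply Nat.card_congr
        exact e.toEquiv.subtypeEquiv (fun x => by
          show orderOf x = 2 ↔ orderOf (e x) = 2
          rw [MulEquiv.orderOf_eq])
      rw [this]
    have hiS' : Nat.card {x : S // orderOf x = 2} = q₀ ^ 2 * (q₀ * (q₀ - 1) + 1) := by
      have : (Nat.card {x : S // orderOf x = 2} : ℤ) = ((q₀ ^ 2 * (q₀ * (q₀ - 1) + 1) : ℕ) : ℤ) := by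
        rw [hiS]
        unfold vb
        push_cast [Nat.cast_sub hq₀1]
        ring
      exact_mod_cast this
    rw [hiS'] at hinv
    have c3 : Nat.Coprime (s * t) (q₀ ^ 2) := by
      rw [hq₀, ← pow_mul]
      apply Nat.Coprime.pow_right
      exact ((Nat.Prime.coprime_iff_not_dvd Nat.prime_three).2 n3).symm
    have hle1 : q ≤ q₀ := by
      have h1 := Nat.le_of_dvd (by positivity) (c3.dvd_of_dvd_mul_left hinv)
      by_contra hlt
      push Not at hlt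
      have h2 : s * t = q * (q - 1) + 1 := by
        obtain ⟨q', rfl⟩ : ∃ q', q = q' + 1 := ⟨q - 1, by omega⟩
        have : q' + 1 - 1 = q' := by omega
        rw [this]
        nlinarith
      have h3 : q₀ * (q₀ - 1) < q * (q - 1) := by
        apply Nat.mul_lt_mul_of_lt_of_le hlt (by omega) (by omega)
      omega
    have hle2 : q₀ ≤ q := by
      by_contra hlt
      push Not at hlt
      have h1 : Nat.card S ≤ Nat.card G := Nat.le_of_dvd Nat.card_pos (hSH.trans hHd)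
      have h2 : vG (q₀ : ℤ) ≤ vG (q : ℤ) := by rw [← hcS, ← hGi]; exact_mod_cast h1
      have h3 : vG (q : ℤ) < vG (q₀ : ℤ) := by
        unfold vG
        have a1 : (q : ℤ) < q₀ := by exact_mod_cast hlt
        have a2 : (27 : ℤ) ≤ q := by exact_mod_cast h27
        have a3 : (q : ℤ) ^ 3 < (q₀ : ℤ) ^ 3 := by gcongr
        have a4 : (0 : ℤ) < (q : ℤ) ^ 3 := by positivity
        have a5 : (q : ℤ) ^ 3 * ((q : ℤ) ^ 3 + 1) < (q₀ : ℤ) ^ 3 * ((q₀ : ℤ) ^ 3 + 1) := by gcongr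
        have a6 : (0 : ℤ) < (q : ℤ) - 1 := by omega
        calc (q : ℤ) ^ 3 * ((q : ℤ) ^ 3 + 1) * ((q : ℤ) - 1) < (q₀ : ℤ) ^ 3 * ((q₀ : ℤ) ^ 3 + 1) * ((q : ℤ) - 1) :=
              mul_lt_mul_of_pos_right a5 a6
          _ ≤ (q₀ : ℤ) ^ 3 * ((q₀ : ℤ) ^ 3 + 1) * ((q₀ : ℤ) - 1) := by
              apply mul_le_mul_of_nonneg_left (by omega)
              positivity
      omega
    have hqq : q₀ = q := le_antisymm hle2 hle1
    have hmm : m₀ = m := by
      rw [hq₀, hq] at hqq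
      have := Nat.pow_right_injective (le_refl 2 |>.trans (by norm_num : 2 ≤ 3)) hqq
      omega
    subst hmm
    have hSG : Nat.card S = Nat.card G := by
      have : (Nat.card S : ℤ) = (Nat.card G : ℤ) := by rw [hcS, hGi, hqq]
      exact_mod_cast this
    obtain ⟨e1⟩ := hiso hSG
    obtain ⟨e2⟩ := ReeField.twistedG2_congr (F := F) (K := K) (by rw [hF, hK]) (3 ^ m₀)
    exact ⟨e1.trans (e.trans e2)⟩

end Cfsg.Agent.H362.ReeMain
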