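import Cfsg.Agent.H362.SpecCov

/-!
# Covers by elementary abelian 2-groups and 3-groups: elements of order 8 and 18 (helper362)

* `exists_eight`: `V` a normal abelian subgroup of exponent 2 of `X`, the quotient has a Frobenius subgroup
  `3 ^ 2 : 4` acting faithfully on `V`: an element of order 8.
* `exists_eighteen`: `V` a normal abelian subgroup of exponent 3, the quotient has a Klein four group `⟨a, b⟩`, an
  element `z` of order 3 permuting `a, b, a b`, an involution `t` centralizing `⟨a, b, z⟩`, and an element `w` swapping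
  `a` and `t`; `a t` is not trivial on `V`: an element of order 18.
-/

set_option autoImplicit false

namespace Cfsg.Agent.H362.SpecCfg

open Subgroup

section grp
variable {H : Type*} [Group H]

/-- closures of two commuting elements -/
theorem comm_closure {a b : H} (hab : a * b = b * a) {x y : H} (hx : x ∈ closure {a, b})
    (hy : y ∈ closure {a, b}) : x * y = y * x := by
  have h1 : closure {a, b} ≤ centralizer ({a, b} : Set H) := by
    rw [closure_le]
    intro g hg
    rw [SetLike.mem_coe, mem_centralizer_iff]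
    intro h hh
    rcases hg with rfl | rfl <;> rcases hh with rfl | rfl
    · rfl
    · exact hab.symm
    · exact hab
    · rfl
  have h2 : closure {a, b} ≤ centralizer {x} := by
    rw [closure_le]
    intro g hg
    rw [SetLike.mem_coe, mem_centralizer_iff]
    intro h hh
    rw [Set.mem_singleton_iff.1 hh]
    exact (mem_centralizer_iff.1 (h1 hx) g hg).symm
  exact mem_centralizer_iff.1 (h2 hy) x rfl

theorem isPGroup_closure {a b : H} (hab : a * b = b * a) {p : ℕ} (ha : a ^ p = 1) (hb : b ^ p = 1) :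
    (∀ x ∈ closure {a, b}, x ^ p = 1) ∧ IsPGroup p (closure ({a, b} : Set H)) := by
  have h1 : ∀ x ∈ closure ({a, b} : Set H), x ^ p = 1 := by
    intro x hx
    induction hx using closure_induction with
    | mem x hx => rcases hx with rfl | rfl <;> assumption
    | one => exact one_pow _
    | mul x y hx hy h1 h2 =>
      have hc : Commute x y := comm_closure hab hx hy
      rw [hc.mul_pow, h1, h2, one_mul]
    | inv x hx h => rw [inv_pow, h, inv_one]
  refine ⟨h1, ?_⟩
  rintro ⟨x, hx⟩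
  exact ⟨1, Subtype.ext (by rw [pow_one]; exact h1 x hx)⟩

theorem conj_closure {a b c : H} (ha : c * a * c⁻¹ ∈ closure {a, b}) (hb : c * b * c⁻¹ ∈ closure {a, b}) :
    ∀ x ∈ closure {a, b}, c * x * c⁻¹ ∈ closure ({a, b} : Set H) := by
  intro x hx
  induction hx using closure_induction with
  | mem x hx => rcases hx with rfl | rfl <;> assumption
  | one => simp
  | mul x y hx hy h1 h2 =>
    have : c * (x * y) * c⁻¹ = (c * x * c⁻¹) * (c * y * c⁻¹) := by group
    rw [this]
    exact mul_mem h1 h2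
  | inv x hx h =>
    have : c * x⁻¹ * c⁻¹ = (c * x * c⁻¹)⁻¹ := by group
    rw [this]
    exact inv_mem h

/-- The Frobenius group `3 ^ 2 : 4`. -/
theorem frob_four {a b c : H} (hab : a * b = b * a) (ha : a ^ 3 = 1) (hb : b ^ 3 = 1) (hc : c ^ 4 = 1)
    (h1 : c * a = b * c) (h2 : c * b = a⁻¹ * c) (ha1 : a ≠ 1) :
    orderOf c = 4 ∧ (∀ x ∈ closure {a, b}, c * x * c⁻¹ ∈ closure ({a, b} : Set H)) ∧
      ∀ i, 0 < i → i < 4 → ∀ x ∈ closure {a, b}, c ^ i * x = x * c ^ i → x = 1 := by
  have haU : a ∈ closure ({a, b} : Set H) := subset_closure (Or.inl rfl)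
  have hbU : b ∈ closure ({a, b} : Set H) := subset_closure (Or.inr rfl)
  have hca : c * a * c⁻¹ = b := by rw [h1]; group
  have hcb : c * b * c⁻¹ = a⁻¹ := by rw [h2]; group
  have hn := conj_closure (a := a) (b := b) (c := c) (by rw [hca]; exact hbU) (by rw [hcb]; exact inv_mem haU)
  have hinv : ∀ x ∈ closure ({a, b} : Set H), c ^ 2 * x = x⁻¹ * c ^ 2 := by
    intro x hx
    induction hx using closure_induction with
    | mem x hx =>
      rcases hx with rfl | rfl
      · rw [pow_two, mul_assoc, h1, ← mul_assoc, h2, mul_assoc]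
      · have h3 : c * a⁻¹ = x⁻¹ * c := by
          rw [eq_comm, inv_mul_eq_iff_eq_mul, ← mul_assoc, ← h1, mul_inv_cancel_right]
        rw [pow_two, mul_assoc, h2, ← mul_assoc, h3, mul_assoc]
    | one => simp
    | mul x y hx hy h1 h2 =>
      rw [← mul_assoc, h1, mul_assoc, h2, ← mul_assoc, mul_inv_rev]
      congr 1
      exact comm_closure hab (inv_mem hx) (inv_mem hy)
    | inv x hx h =>
      rw [inv_inv]
      have : x * (c ^ 2 * x) = c ^ 2 := by rw [h, mul_inv_cancel_left]
      calc c ^ 2 * x⁻¹ = x * (c ^ 2 * x) * x⁻¹ := by rw [this]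
        _ = x * c ^ 2 := by group
  obtain ⟨h3, -⟩ := isPGroup_closure hab ha hb
  have hord : orderOf c = 4 := by
    have h4 : orderOf c ∣ 2 ^ (1 + 1) := by rw [orderOf_dvd_iff_pow_eq_one]; exact hc
    apply orderOf_eq_prime_pow (p := 2) (n := 1) _ hc
    intro h5
    rw [pow_one] at h5
    have h6 := hinv a haU
    rw [h5, one_mul, mul_one] at h6
    have h7 : a ^ 2 = 1 := by rw [pow_two]; nth_rw 1 [h6]; exact inv_mul_cancel a
    apply ha1
    rw [pow_succ, h7, one_mul] at ha
    exact ha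
  refine ⟨hord, hn, ?_⟩
  intro i hi0 hi x hx hcomm
  have hc2 : c ^ 2 * x = x * c ^ 2 := by
    have h4 : Commute (c ^ i) x := hcomm
    rcases (by omega : i = 1 ∨ i = 2 ∨ i = 3) with rfl | rfl | rfl
    · have := h4.pow_left 2
      rw [← pow_mul] at this
      exact this
    · exact h4
    · have := h4.pow_left 2
      rw [← pow_mul, show 3 * 2 = 4 + 2 by norm_num, pow_add, hc, one_mul] at this
      exact this
  have h5 := hinv x hx
  rw [hc2] at h5
  have h6 := mul_right_cancel h5
  have h7 : x ^ 2 = 1 := by rw [pow_two]; nth_rw 1 [h6]; exact inv_mul_cancel x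
  have h8 := h3 x hx
  rw [pow_succ, h7, one_mul] at h8
  exact h8

/-- The Frobenius group `2 ^ 2 : 3`. -/
theorem frob_three {a b c : H} (hab : a * b = b * a) (ha : a ^ 2 = 1) (hb : b ^ 2 = 1) (hc : c ^ 3 = 1)
    (h1 : c * a = b * c) (h2 : c * b = a * b * c) (ha1 : a ≠ 1) :
    orderOf c = 3 ∧ (∀ x ∈ closure {a, b}, c * x * c⁻¹ ∈ closure ({a, b} : Set H)) ∧
      ∀ i, 0 < i → i < 3 → ∀ x ∈ closure {a, b}, c ^ i * x = x * c ^ i → x = 1 := by
  have haU : a ∈ closure ({a, b} : Set H) := subset_closure (Or.inl rfl)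
  have hbU : b ∈ closure ({a, b} : Set H) := subset_closure (Or.inr rfl)
  have hca : c * a * c⁻¹ = b := by rw [h1]; group
  have hcb : c * b * c⁻¹ = a * b := by rw [h2]; group
  have hn := conj_closure (a := a) (b := b) (c := c) (by rw [hca]; exact hbU)
    (by rw [hcb]; exact mul_mem haU hbU)
  have haa : a * a = 1 := by rw [← pow_two]; exact ha
  have hbb : b * b = 1 := by rw [← pow_two]; exact hb
  obtain ⟨h3, -⟩ := isPGroup_closure hab ha hb
  -- the norm is trivial
  have hN : ∀ x ∈ closure ({a, b} : Set H), x * (c * x * c⁻¹) * (c * (c * x * c⁻¹) * c⁻¹) = 1 := by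
    intro x hx
    induction hx using closure_induction with
    | mem x hx =>
      rcases hx with rfl | rfl
      · rw [hca, hcb]
        have hab' : (x * b) * (x * b) = 1 := by
          rw [mul_assoc, ← mul_assoc b x b, ← hab, mul_assoc x b b, hbb, mul_one, haa]
        rw [hab']
      · rw [hcb]
        have h5 : c * (a * x) * c⁻¹ = a := by
          have : c * (a * x) * c⁻¹ = (c * a * c⁻¹) * (c * x * c⁻¹) := by group
          rw [this, hca, hcb, hab, ← mul_assoc, hbb, one_mul]
        rw [h5, ← mul_assoc, ← hab, mul_assoc a x x, hbb, mul_one, haa]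
    | one => simp
    | mul x y hx hy h1 h2 =>
      have e1 : c * (x * y) * c⁻¹ = (c * x * c⁻¹) * (c * y * c⁻¹) := by group
      have e2 : c * (c * (x * y) * c⁻¹) * c⁻¹ = (c * (c * x * c⁻¹) * c⁻¹) * (c * (c * y * c⁻¹) * c⁻¹) := by group
      rw [e2, e1]
      set x1 := c * x * c⁻¹ with hx1
      set y1 := c * y * c⁻¹ with hy1
      set x2 := c * x1 * c⁻¹ with hx2
      set y2 := c * y1 * c⁻¹ with hy2
      have hx1U : x1 ∈ closure ({a, b} : Set H) := hn x hx
      have hx2U : x2 ∈ closure ({a, b} : Set H) := hn x1 hx1U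
      have hy1U : y1 ∈ closure ({a, b} : Set H) := hn y hy
      have c1 : x1 * y = y * x1 := comm_closure hab hx1U hy
      have c2 : x2 * (y * y1) = (y * y1) * x2 := comm_closure hab hx2U (mul_mem hy hy1U)
      calc x * y * (x1 * y1) * (x2 * y2) = x * (y * x1) * y1 * x2 * y2 := by group
        _ = x * x1 * ((y * y1) * x2) * y2 := by rw [← c1]; group
        _ = (x * x1 * x2) * (y * y1 * y2) := by rw [← c2]; group
        _ = 1 := by rw [h1, h2, one_mul]
    | inv x hx h =>
      have hxi : x⁻¹ = x := inv_eq_of_mul_eq_one_left (by rw [← pow_two]; exact h3 x hx)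
      rw [hxi]
      exact h
  have hfix1 : ∀ x ∈ closure ({a, b} : Set H), c * x = x * c → x = 1 := by
    intro x hx h
    have h5 := hN x hx
    have h6 : c * x * c⁻¹ = x := by rw [h]; group
    rw [h6, h6] at h5
    have h7 := h3 x hx
    rw [← pow_two, h7, one_mul] at h5
    exact h5
  have hord : orderOf c = 3 := by
    apply orderOf_eq_prime (hp := ⟨Nat.prime_three⟩) hc
    intro h5
    apply ha1
    apply hfix1 a haU
    rw [h5, one_mul, mul_one]
  refine ⟨hord, hn, ?_⟩
  intro i hi0 hi x hx hcomm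
  apply hfix1 x hx
  have h4 : Commute (c ^ i) x := hcomm
  rcases (by omega : i = 1 ∨ i = 2) with rfl | rfl
  · rw [pow_one] at h4; exact h4
  · have := h4.pow_left 2
    rw [← pow_mul, show 2 * 2 = 3 + 1 by norm_num, pow_add, hc, one_mul, pow_one] at this
    exact this

end grp

section act
variable {H V : Type*} [Group H] [CommGroup V] (θ : H →* MulAut V)

/-- A vector fixed by `t` and moved by `a`. -/
theorem exists_fixed_moved {e : ℕ} (he : e % 2 = 1) (hV : ∀ v : V, v ^ e = 1) {a t w : H}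
    (hat : a * t = t * a) (ha : a ^ 2 = 1) (ht : t ^ 2 = 1) (h1 : w * a = t * w) (h2 : w * t = a * w)
    {v₀ : V} (hv₀ : θ (a * t) v₀ ≠ v₀) : ∃ v, θ t v = v ∧ θ a v ≠ v := by
  by_contra hcon
  push Not at hcon
  have hcon' : ∀ v, θ a v = v → θ t v = v := by
    intro v hv
    have h3 : θ t (θ w v) = θ w v := by
      rw [← MulAut.mul_apply, ← map_mul, ← h1, map_mul, MulAut.mul_apply, hv]
    have h4 := hcon _ h3
    rw [← MulAut.mul_apply, ← map_mul, ← h2, map_mul, MulAut.mul_apply] at h4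
    exact (θ w).injective h4
  apply hv₀
  set v := v₀
  have hm : θ (a * t) v = θ a (θ t v) := by rw [map_mul, MulAut.mul_apply]
  have hm' : θ (a * t) v = θ t (θ a v) := by rw [hat, map_mul, MulAut.mul_apply]
  have haa : θ a (θ a v) = v := by
    rw [← MulAut.mul_apply, ← map_mul, ← pow_two, ha, map_one, MulAut.one_apply]
  have htt : θ t (θ t v) = v := by
    rw [← MulAut.mul_apply, ← map_mul, ← pow_two, ht, map_one, MulAut.one_apply]
  have e1 : θ t (v * θ a v) = v * θ a v := by
    apply hcon'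
    rw [map_mul, haa, mul_comm]
  have e2 : θ a (v * θ t v) = v * θ t v := by
    apply hcon
    rw [map_mul, htt, mul_comm]
  rw [map_mul, ← hm'] at e1
  rw [map_mul, ← hm] at e2
  set m := θ (a * t) v
  set x := θ a v
  set y := θ t v
  -- `y m = v x`, `x m = v y`
  have h3 : m * m = v * v := by
    have h4 : x * m * m = x * v * v := by
      rw [e2, mul_assoc, e1]
      rw [← mul_assoc, mul_comm (v * v) x, mul_assoc]
    rw [mul_assoc, mul_assoc] at h4
    exact mul_left_cancel h4
  have h5 : (m * v⁻¹) ^ 2 = 1 := by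
    rw [mul_pow, pow_two m, h3, inv_pow, pow_two v, mul_inv_cancel]
  have h6 : (m * v⁻¹) ^ e = 1 := hV _
  have h7 : m * v⁻¹ = 1 := by
    have h8 := pow_gcd_eq_one.2 ⟨h5, h6⟩
    have h9 : Nat.gcd 2 e = 1 := Nat.coprime_two_left.2 (Nat.odd_iff.2 he)
    rwa [h9, pow_one] at h8
  exact mul_inv_eq_one.1 h7

end act

section cov
variable {X : Type*} [Group X] [Finite X]

/-- **Order 8.** -/
theorem exists_eight (V : Subgroup X) [V.Normal] (hV : IsMulCommutative V) (hVp : ∀ v ∈ V, v ^ 2 = 1)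
    {a b c : X ⧸ V} (hab : a * b = b * a) (ha : a ^ 3 = 1) (hb : b ^ 3 = 1) (hc : c ^ 4 = 1)
    (h1 : c * a = b * c) (h2 : c * b = a⁻¹ * c) (ha1 : ∃ g : X, (g : X ⧸ V) = a ∧ ∃ v ∈ V, g * v ≠ v * g) :
    ∃ x : X, orderOf x = 8 := by
  have ha1' : a ≠ 1 := by
    rintro rfl
    obtain ⟨g, hg, v, hv, hgv⟩ := ha1
    exact hgv (congrArg Subtype.val (hV.is_comm.comm ⟨g, (QuotientGroup.eq_one_iff g).1 hg⟩ ⟨v, hv⟩))
  obtain ⟨h3, h4, h5⟩ := frob_four hab ha hb hc h1 h2 ha1'
  obtain ⟨-, h6⟩ := isPGroup_closure hab ha hb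
  have : Finite (X ⧸ V) := inferInstance
  obtain ⟨y, hy⟩ := H371.Frob.exists_orderOf V hV Nat.prime_two hVp (closure {a, b}) (c := c) h4
    (by rw [h3]; exact h5)
    (by
      have := Fact.mk Nat.prime_three
      obtain ⟨k, hk⟩ := IsPGroup.iff_card.1 h6
      rw [hk]
      exact Nat.Coprime.pow_left _ (by norm_num))
    (by
      obtain ⟨g, hg, v, hv, hgv⟩ := ha1
      exact ⟨g, by rw [hg]; exact subset_closure (Or.inl rfl), v, hv, hgv⟩)
  exact ⟨y, by rw [hy, h3]⟩

/-- **Order 18.** -/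
theorem exists_eighteen (V : Subgroup X) [V.Normal] (hV : IsMulCommutative V) (hVp : ∀ v ∈ V, v ^ 3 = 1)
    {a b c t w : X ⧸ V} (hab : a * b = b * a) (ha : a ^ 2 = 1) (hb : b ^ 2 = 1) (hc : c ^ 3 = 1)
    (h1 : c * a = b * c) (h2 : c * b = a * b * c) (ht : t ^ 2 = 1) (hat : a * t = t * a)
    (hbt : b * t = t * b) (hct : c * t = t * c) (h3 : w * a = t * w) (h4 : w * t = a * w)
    (ha1 : ∃ g : X, (g : X ⧸ V) = a * t ∧ ∃ v ∈ V, g * v ≠ v * g) :
    ∃ x : X, orderOf x = 18 := by
  have ha1' : a ≠ 1 := by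
    rintro rfl
    have ht1 : t = 1 := by
      rw [mul_one] at h3
      exact mul_eq_right.1 h3.symm
    obtain ⟨g, hg, v, hv, hgv⟩ := ha1
    rw [ht1, one_mul] at hg
    exact hgv (congrArg Subtype.val (hV.is_comm.comm ⟨g, (QuotientGroup.eq_one_iff g).1 hg⟩ ⟨v, hv⟩))
  have ht1 : t ≠ 1 := by
    rintro rfl
    rw [one_mul] at h3
    exact ha1' (mul_eq_left.1 h3)
  obtain ⟨h5, h6, h7⟩ := frob_three hab ha hb hc h1 h2 ha1'
  obtain ⟨-, h8⟩ := isPGroup_closure hab ha hb
  let _ : CommGroup V := { (inferInstance : Group V) with mul_comm := hV.is_comm.comm }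
  obtain ⟨g, hg, v, hv, hgv⟩ := ha1
  obtain ⟨u, hu1, hu2⟩ := exists_fixed_moved (H371.Frob.quotAct V hV) (e := 3) (by norm_num)
    (fun v => Subtype.ext (hVp v.1 v.2)) hat ha ht h3 h4 (v₀ := ⟨v, hv⟩) (by
      intro h
      apply hgv
      rw [← hg] at h
      have h9 := congrArg Subtype.val h
      change ((H371.Frob.quotAct V hV (g : X ⧸ V) ⟨v, hv⟩ : V) : X) = v at h9
      rw [H371.Frob.quotAct_mk] at h9
      exact mul_inv_eq_iff_eq_mul.1 h9)
  obtain ⟨s, rfl⟩ := QuotientGroup.mk_surjective t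
  obtain ⟨a', rfl⟩ := QuotientGroup.mk_surjective a
  have hs : s * (u : X) = u * s := by
    have h9 := congrArg Subtype.val hu1
    change ((H371.Frob.quotAct V hV (s : X ⧸ V) u : V) : X) = u at h9
    rw [H371.Frob.quotAct_mk] at h9
    exact mul_inv_eq_iff_eq_mul.1 h9
  have hs' : a' * (u : X) ≠ u * a' := by
    intro h
    apply hu2
    apply Subtype.ext
    change ((H371.Frob.quotAct V hV (a' : X ⧸ V) u : V) : X) = u
    rw [H371.Frob.quotAct_mk]
    exact mul_inv_eq_iff_eq_mul.2 h
  have haU : (a' : X ⧸ V) ∈ closure ({(a' : X ⧸ V), b} : Set (X ⧸ V)) := subset_closure (Or.inl rfl)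
  have hUt : ∀ x ∈ closure ({(a' : X ⧸ V), b} : Set (X ⧸ V)), x * (s : X ⧸ V) = s * x := by
    have h9 : closure ({(a' : X ⧸ V), b} : Set (X ⧸ V)) ≤ centralizer {(s : X ⧸ V)} := by
      rw [closure_le]
      intro x hx
      rw [SetLike.mem_coe, mem_centralizer_iff]
      intro y hy
      rw [Set.mem_singleton_iff.1 hy]
      rcases hx with rfl | rfl
      · exact hat.symm
      · exact hbt.symm
    intro x hx
    exact (mem_centralizer_iff.1 (h9 hx) _ rfl).symm
  obtain ⟨y, hy⟩ := SpecCov.exists_two_mul V hV Nat.prime_three (by norm_num) hVp (s : X ⧸ V) ht ht1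
    (closure {(a' : X ⧸ V), b}) (c := c) hUt hct h6 (by rw [h5]; exact h7)
    (by
      have := Fact.mk Nat.prime_two
      obtain ⟨k, hk⟩ := IsPGroup.iff_card.1 h8
      rw [hk]
      exact Nat.Coprime.pow_left _ (by norm_num)) (by rw [h5])
    ⟨s, a', rfl, haU, u, u.2, hs, hs'⟩
  exact ⟨y, by rw [hy, h5]⟩

end cov

end Cfsg.Agent.H362.SpecCfg
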