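import Cfsg.Agent.H362.CfgLin
import Cfsg.Agent.H363.L4.CoverNe

/-!
# Covers of `PSL_4(q)`, `q` a power of 2 or 3, by elementary abelian groups of the characteristic (helper362)

Same form as `Cfsg.Agent.H363.L4.cover_ne`.
-/

set_option autoImplicit false

namespace Cfsg.Agent.H362.SpecL4

open Matrix Cfsg.Agent.H363.L4 Cfsg.Agent.H363.PslSpec Cfsg.Agent.H403 NumTop Subgroup CfgLin

variable {F : Type*} [Field F] [Fintype F]

/-- from the prime field to `PSL_4(F)` -/
noncomputable def emb (F : Type*) [Field F] (p : ℕ) [CharP F p] :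
    Matrix.SpecialLinearGroup (Fin 4) (ZMod p) →* L4 F :=
  (pr F 4).comp (Matrix.SpecialLinearGroup.map (ZMod.castHom (dvd_refl p) F))

theorem emb_eq_one {p : ℕ} [CharP F p] {g : Matrix.SpecialLinearGroup (Fin 4) (ZMod p)} (h : emb F p g = 1) :
    ∀ i j, i ≠ j → (g : Matrix (Fin 4) (Fin 4) (ZMod p)) i j = 0 := by
  intro i j hij
  rw [emb, MonoidHom.comp_apply, pr_eq_one, Matrix.SpecialLinearGroup.mem_center_iff] at h
  obtain ⟨c, -, hc⟩ := h
  have h1 := congrFun (congrFun hc i) j
  rw [scalar_apply, diagonal_apply_ne _ hij] at h1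
  have h2 : ZMod.castHom (dvd_refl p) F ((g : Matrix (Fin 4) (Fin 4) (ZMod p)) i j) = 0 := h1.symm
  by_cases hp : p = 0
  · subst hp
    exact (RingHom.injective_iff_ker_eq_bot _).2 (by
      rw [eq_bot_iff]; intro x hx
      have hc : CharZero F := CharP.charP_to_charZero F
      have := Fintype.card_pos (α := F)
      exact absurd (inferInstance : Finite F) (not_finite_iff_infinite.2 (CharZero.infinite F))) (by rw [h2, map_zero])
  · have : NeZero p := ⟨hp⟩
    have hinj : Function.Injective (ZMod.castHom (dvd_refl p) F) := ZMod.castHom_injective F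
    exact hinj (by rw [h2, map_zero])

theorem emb_n3 [CharP F 3] : emb F 3 n3 = 1 := by
  rw [emb, MonoidHom.comp_apply, pr_eq_one, Matrix.SpecialLinearGroup.mem_center_iff]
  refine ⟨-1, by norm_num, ?_⟩
  have h2 : (ZMod.castHom (dvd_refl 3) F) 2 = -1 := by
    have : (2 : ZMod 3) = -1 := by decide
    rw [this, map_neg, map_one]
  have h0 : (ZMod.castHom (dvd_refl 3) F) 0 = 0 := map_zero _
  ext i j
  change (scalar (Fin 4) (-1 : F)) i j = (ZMod.castHom (dvd_refl 3) F) ((n3 : Matrix (Fin 4) (Fin 4) (ZMod 3)) i j)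
  rw [scalar_apply]
  fin_cases i <;> fin_cases j <;> simp [n3, diagonal, h2]

/-- **Covers in characteristic 2.** -/
theorem cover_two [CharP F 2] {X : Type*} [Group X] [Finite X] (V : Subgroup X)
    [V.Normal] [IsSimpleGroup (X ⧸ V)] (hVc : IsMulCommutative V)
    (hVp : ∀ v ∈ V, v ^ 2 = 1) (hV : V ≠ ⊥) (e : X ⧸ V ≃* L4 F)
    (hω : ∀ x : X, ∃ y : L4 F, orderOf y = orderOf x) : False := by
  obtain ⟨v, hv, hv1⟩ : ∃ v ∈ V, v ≠ 1 := by
    by_contra hcon
    push Not at hcon
    exact hV ((eq_bot_iff_forall V).2 hcon)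
  have hvo : orderOf v = 2 := orderOf_eq_prime (hVp v hv) hv1
  by_cases hcen : V ≤ center X
  · have hq : 2 ≤ Fintype.card F := Fintype.one_lt_card
    obtain ⟨s, hs, -, hso⟩ := exists_prime (e := true) (i := 4) hq (by norm_num)
      (by rintro (⟨_, h, _⟩ | ⟨h, _, _⟩) <;> simp at h)
    replace hso : orderOf ((Fintype.card F : ℕ) : ZMod s) = 4 := by simpa [xv] using hso
    have hs2 : s ≠ 2 := by
      rintro rfl
      have h1 : ∀ z : ZMod 2, z ^ 2 = 1 ∨ z = 0 := by decide
      rcases h1 ((Fintype.card F : ℕ) : ZMod 2) with h | h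
      · have h2 := orderOf_dvd_of_pow_eq_one h
        rw [hso] at h2
        norm_num at h2
      · rw [h, orderOf_eq_zero_iff'.2 (by intro n hn; rw [zero_pow hn.ne']; exact zero_ne_one)] at hso
        norm_num at hso
    have hsd : s ∣ Nat.card X := by
      obtain ⟨g, hg⟩ := exists_r4 (F := F) hs hso
      have h1 : s ∣ Nat.card (X ⧸ V) := by
        rw [Nat.card_congr e.toEquiv, ← hg]
        exact _root_.orderOf_dvd_natCard g
      exact h1.trans (card_quotient_dvd_card V)
    obtain ⟨x, hx⟩ := exists_mul_of_central (hcen hv) hvo hs ((Nat.coprime_primes Nat.prime_two hs).2 (Ne.symm hs2)) hsd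
    obtain ⟨y, hy⟩ := hω x
    exact not_p_of_r4 Nat.prime_two hs hso y (by rw [hy, hx]; exact dvd_mul_left _ _)
      (by rw [hy, hx]; exact dvd_mul_right _ _)
  · let f : Matrix.SpecialLinearGroup (Fin 4) (ZMod 2) →* X ⧸ V := e.symm.toMonoidHom.comp (emb F 2)
    have hf : ∀ g, f g = 1 → emb F 2 g = 1 := by
      intro g hg
      exact e.symm.injective (by rw [map_one]; exact hg)
    obtain ⟨x, hx⟩ := SpecCfg.exists_eight V hVc hVp (a := f a2) (b := f b2) (c := f c2)
      (by rw [← map_mul, ← map_mul, comm2]) (by rw [← map_pow, a2_pow, map_one])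
      (by rw [← map_pow, b2_pow, map_one]) (by rw [← map_pow, c2_pow, map_one])
      (by rw [← map_mul, ← map_mul, ca2])
      (by rw [eq_inv_mul_iff_mul_eq, ← map_mul, ← map_mul, cb2])
      (by
        obtain ⟨g, hg⟩ := QuotientGroup.mk_surjective (f a2)
        refine ⟨g, hg, exists_not_comm V hVc hcen g fun h => ?_⟩
        have h1 := emb_eq_one (hf a2 (by rw [← hg]; exact (QuotientGroup.eq_one_iff g).2 h)) 0 1 (by decide)
        exact absurd h1 (by decide))
    obtain ⟨y, hy⟩ := hω x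
    exact not_eight y (by rw [hy, hx])

/-- **Covers in characteristic 3.** -/
theorem cover_three [CharP F 3] {X : Type*} [Group X] [Finite X] (V : Subgroup X)
    [V.Normal] [IsSimpleGroup (X ⧸ V)] (hVc : IsMulCommutative V)
    (hVp : ∀ v ∈ V, v ^ 3 = 1) (hV : V ≠ ⊥) (e : X ⧸ V ≃* L4 F)
    (hω : ∀ x : X, ∃ y : L4 F, orderOf y = orderOf x) : False := by
  obtain ⟨v, hv, hv1⟩ : ∃ v ∈ V, v ≠ 1 := by
    by_contra hcon
    push Not at hcon
    exact hV ((eq_bot_iff_forall V).2 hcon)
  have hvo : orderOf v = 3 := orderOf_eq_prime (hp := ⟨Nat.prime_three⟩) (hVp v hv) hv1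
  by_cases hcen : V ≤ center X
  · have hq : 2 ≤ Fintype.card F := Fintype.one_lt_card
    obtain ⟨s, hs, -, hso⟩ := exists_prime (e := true) (i := 4) hq (by norm_num)
      (by rintro (⟨_, h, _⟩ | ⟨h, _, _⟩) <;> simp at h)
    replace hso : orderOf ((Fintype.card F : ℕ) : ZMod s) = 4 := by simpa [xv] using hso
    have hs3 : s ≠ 3 := by
      rintro rfl
      have h1 : ∀ z : ZMod 3, z ^ 2 = 1 ∨ z = 0 := by decide
      rcases h1 ((Fintype.card F : ℕ) : ZMod 3) with h | h
      · have h2 := orderOf_dvd_of_pow_eq_one h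
        rw [hso] at h2
        norm_num at h2
      · rw [h, orderOf_eq_zero_iff'.2 (by intro n hn; rw [zero_pow hn.ne']; exact zero_ne_one)] at hso
        norm_num at hso
    have hsd : s ∣ Nat.card X := by
      obtain ⟨g, hg⟩ := exists_r4 (F := F) hs hso
      have h1 : s ∣ Nat.card (X ⧸ V) := by
        rw [Nat.card_congr e.toEquiv, ← hg]
        exact _root_.orderOf_dvd_natCard g
      exact h1.trans (card_quotient_dvd_card V)
    obtain ⟨x, hx⟩ := exists_mul_of_central (hcen hv) hvo hs ((Nat.coprime_primes Nat.prime_three hs).2 (Ne.symm hs3)) hsd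
    obtain ⟨y, hy⟩ := hω x
    exact not_p_of_r4 Nat.prime_three hs hso y (by rw [hy, hx]; exact dvd_mul_left _ _)
      (by rw [hy, hx]; exact dvd_mul_right _ _)
  · let f : Matrix.SpecialLinearGroup (Fin 4) (ZMod 3) →* X ⧸ V := e.symm.toMonoidHom.comp (emb F 3)
    have hf : ∀ g, f g = 1 → emb F 3 g = 1 := by
      intro g hg
      exact e.symm.injective (by rw [map_one]; exact hg)
    have hn : f n3 = 1 := by
      change e.symm (emb F 3 n3) = 1
      rw [emb_n3, map_one]
    obtain ⟨x, hx⟩ := SpecCfg.exists_eighteen V hVc hVp (a := f a3) (b := f b3) (c := f c3) (t := f t3) (w := f w3)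
      (by rw [← map_mul, ab3, map_mul, hn, one_mul, map_mul]) (by rw [← map_pow, a3_pow, hn])
      (by rw [← map_pow, b3_pow, hn]) (by rw [← map_pow, c3_pow, map_one])
      (by rw [← map_mul, ← map_mul, ca3]) (by rw [← map_mul, ← map_mul, ← map_mul, cb3])
      (by rw [← map_pow, t3_pow, hn])
      (by rw [← map_mul, ← map_mul, at3]) (by rw [← map_mul, ← map_mul, bt3])
      (by rw [← map_mul, ← map_mul, ct3]) (by rw [← map_mul, ← map_mul, wa3]) (by rw [← map_mul, ← map_mul, wt3])
      (by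
        obtain ⟨g, hg⟩ := QuotientGroup.mk_surjective (f (a3 * t3))
        refine ⟨g, by rw [hg, map_mul], exists_not_comm V hVc hcen g fun h => ?_⟩
        have h1 := emb_eq_one (hf (a3 * t3) (by rw [← hg]; exact (QuotientGroup.eq_one_iff g).2 h)) 0 3 (by decide)
        exact absurd h1 (by decide))
    obtain ⟨y, hy⟩ := hω x
    exact not_nine_mul y (w := 2) (by norm_num) (by rw [hy, hx])

end Cfsg.Agent.H362.SpecL4
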